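import Groth.Agent.KS92.Local
import Mathlib.LinearAlgebra.Matrix.Charpoly.Coeff
import Mathlib.RingTheory.SimpleRing.Matrix
import Mathlib.LinearAlgebra.Basis.VectorSpace
import Mathlib.LinearAlgebra.Matrix.Trace

/-!
# Forms of matrix algebras
-/

set_option autoImplicit false

universe u

namespace Groth.Agent.BCHom92

variable {k K A : Type u} [Field k] [Field K] [Algebra k K] [Ring A] [Algebra k A] {r : ℕ}
  (Φ : A →+* Matrix (Fin r) (Fin r) K)

/-- A form of a matrix algebra without non-trivial idempotents is a division ring. -/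
theorem isUnit_of_ne_zero [Module.Finite k A] (hidem : ∀ e : A, e * e = e → e = 0 ∨ e = 1)
    (hinj : Function.Injective Φ)
    (hsurj : ∀ M : Matrix (Fin r) (Fin r) K, ∃ (ι : Type) (_ : Fintype ι) (c : ι → K) (a : ι → A),
      M = ∑ i, c i • Φ (a i)) {f : A} (hf : f ≠ 0) : IsUnit f := by
  by_contra hnu
  have hfn : IsNilpotent f := (KS92.isUnit_or_isNilpotent (k := k) hidem f).resolve_left hnu
  haveI : Nontrivial A := ⟨⟨f, 0, hf⟩⟩
  have hnil : ∀ a : A, IsNilpotent (f * a) := fun a => by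
    refine (KS92.isUnit_or_isNilpotent (k := k) hidem _).resolve_left fun hu => ?_
    obtain ⟨u, hu⟩ := hu
    have hy : f * (a * ↑u⁻¹) = 1 := by rw [← mul_assoc, ← hu, Units.mul_inv]
    obtain ⟨n, hn⟩ := hfn
    have : ∀ m : ℕ, f ^ m * (a * ↑u⁻¹) ^ m = 1 := fun m => by
      induction m with
      | zero => simp
      | succ m ih => rw [pow_succ, pow_succ', mul_assoc (f ^ m), ← mul_assoc f, hy, one_mul, ih]
    exact one_ne_zero ((this n).symm.trans (by rw [hn, zero_mul]))
  have htr : ∀ M, Matrix.trace (Φ f * M) = 0 := fun M => by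
    obtain ⟨ι, _, c, a, rfl⟩ := hsurj M
    rw [Finset.mul_sum, Matrix.trace_sum]
    refine Finset.sum_eq_zero fun i _ => ?_
    rw [Matrix.mul_smul, Matrix.trace_smul, ← map_mul,
      (Matrix.isNilpotent_trace_of_isNilpotent ((hnil (a i)).map Φ)).eq_zero, smul_zero]
  refine hf (hinj ?_)
  rw [map_zero]
  refine Matrix.ext fun i j => ?_
  have := htr (Matrix.single j i 1)
  rwa [Matrix.trace_mul_single, MulOpposite.op_one, one_smul] at this

/-- A form of a matrix algebra is simple. -/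
theorem isSimpleRing_of_form (hr : 0 < r) (hΦk : ∀ (c : k) (a : A), Φ (c • a) = algebraMap k K c • Φ a)
    (hsurj : ∀ M : Matrix (Fin r) (Fin r) K, ∃ (ι : Type) (_ : Fintype ι) (c : ι → K) (a : ι → A),
      M = ∑ i, c i • Φ (a i))
    (hind : ∀ {β : Type u} (b : Module.Basis β k K) (S : Finset β) (f : β → A),
      ∑ i ∈ S, b i • Φ (f i) = 0 → ∀ i ∈ S, f i = 0) : IsSimpleRing A := by
  classical
  haveI : Nonempty (Fin r) := ⟨⟨0, hr⟩⟩
  have hv : LinearIndependent k (fun _ : Unit => (1 : K)) := linearIndependent_unique_iff.2 one_ne_zero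
  let b := Module.Basis.sumExtend hv
  have hb : b (Sum.inl ()) = 1 := by
    simp [b, Module.Basis.sumExtend]
    rfl
  haveI : Nontrivial A := ⟨⟨1, 0, fun h10 => one_ne_zero (α := Matrix (Fin r) (Fin r) K) (by
    rw [← map_one Φ, h10, map_zero])⟩⟩
  refine IsSimpleRing.of_eq_bot_or_eq_top fun I => or_iff_not_imp_left.2 fun hI => ?_
  obtain ⟨a₀, ha₀, hne⟩ : ∃ a, a ∈ I ∧ a ≠ 0 := by
    by_contra! h
    refine hI (le_antisymm (fun x hx => ?_) bot_le)
    rw [h x hx]
    exact TwoSidedIdeal.zero_mem _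
  let J := Submodule.span K (Φ '' (I : Set A))
  have hstab : ∀ (M : Matrix (Fin r) (Fin r) K) (x : Matrix (Fin r) (Fin r) K), x ∈ J →
      M * x ∈ J ∧ x * M ∈ J := fun M x hx => by
    obtain ⟨ι, _, c, a, rfl⟩ := hsurj M
    induction hx using Submodule.span_induction with
    | mem x hx =>
      obtain ⟨y, hy, rfl⟩ := hx
      rw [Finset.sum_mul, Finset.mul_sum]
      refine ⟨Submodule.sum_mem _ fun i _ => ?_, Submodule.sum_mem _ fun i _ => ?_⟩
      · rw [smul_mul_assoc, ← map_mul]
        exact Submodule.smul_mem _ _ (Submodule.subset_span ⟨_, I.mul_mem_left _ _ hy, rfl⟩)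
      · rw [mul_smul_comm, ← map_mul]
        exact Submodule.smul_mem _ _ (Submodule.subset_span ⟨_, I.mul_mem_right _ _ hy, rfl⟩)
    | zero => simp
    | add x y _ _ hx hy => rw [mul_add, add_mul]; exact ⟨add_mem hx.1 hy.1, add_mem hx.2 hy.2⟩
    | smul c x _ hx => rw [mul_smul_comm, smul_mul_assoc]; exact ⟨J.smul_mem c hx.1, J.smul_mem c hx.2⟩
  let T : TwoSidedIdeal (Matrix (Fin r) (Fin r) K) := TwoSidedIdeal.mk' (J : Set _) J.zero_mem
    (fun hx hy => J.add_mem hx hy) (fun hx => J.neg_mem hx) (fun {x y} hy => (hstab x y hy).1)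
    (fun {x y} hx => (hstab y x hx).2)
  have hT : T = ⊤ := by
    refine (eq_bot_or_eq_top T).resolve_left fun h0 => ?_
    have h1 : Φ a₀ ∈ T := (TwoSidedIdeal.mem_mk' _ _ _ _ _ _ _).2 (Submodule.subset_span ⟨a₀, ha₀, rfl⟩)
    rw [h0, TwoSidedIdeal.mem_bot] at h1
    let S : Finset (Unit ⊕ Module.Basis.sumExtendIndex hv) := {Sum.inl ()}
    exact hne (hind b S (fun _ => a₀) (by simp [S, h1]) (Sum.inl ()) (by simp [S]))
  have h1J : (1 : Matrix (Fin r) (Fin r) K) ∈ J := by
    have h : (1 : Matrix (Fin r) (Fin r) K) ∈ T := hT ▸ trivial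
    exact (TwoSidedIdeal.mem_mk' _ _ _ _ _ _ _).1 h
  obtain ⟨s, hs⟩ := (Submodule.mem_span_image_iff_exists_fun K).1 h1J
  obtain ⟨hsI, c, hc⟩ := hs
  let S := insert (Sum.inl ()) (Finset.univ.biUnion fun i : s => (b.repr (c i)).support)
  let f : _ → A := fun j => (∑ i : s, b.repr (c i) j • (i : A)) - if j = Sum.inl () then 1 else 0
  have hz : ∑ j ∈ S, b j • Φ (f j) = 0 := by
    simp only [f, map_sub, map_sum, hΦk, smul_sub, Finset.sum_sub_distrib, Finset.smul_sum, smul_smul]
    have hsec : ∑ j ∈ S, b j • Φ (if j = Sum.inl () then 1 else 0) = 1 := by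
      rw [Finset.sum_eq_single (Sum.inl ()) (fun j _ hj => by rw [if_neg hj, map_zero, smul_zero])
        (fun hn => absurd (Finset.mem_insert_self _ _) hn), if_pos rfl, map_one, hb, one_smul]
    rw [hsec, Finset.sum_comm, sub_eq_zero, ← hc]
    refine Finset.sum_congr rfl fun i _ => ?_
    rw [← Finset.sum_smul]
    congr 1
    conv_rhs => rw [← b.linearCombination_repr (c i), Finsupp.linearCombination_apply]
    refine Eq.trans ?_ (Finsupp.sum_of_support_subset _ ((Finset.subset_biUnion_of_mem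
      (fun i : s => (b.repr (c i)).support) (Finset.mem_univ i)).trans (Finset.subset_insert (Sum.inl ()) _))
      (fun j a => a • b j) (fun j _ => zero_smul k (b j))).symm
    exact Finset.sum_congr rfl fun j _ => by rw [Algebra.smul_def, mul_comm]
  have hmem := hind b S f hz (Sum.inl ()) (Finset.mem_insert_self _ _)
  simp only [f, if_true, sub_eq_zero] at hmem
  rw [← TwoSidedIdeal.one_mem_iff, ← hmem]
  refine sum_mem fun i _ => ?_
  rw [Algebra.smul_def]
  exact I.mul_mem_left _ _ (hsI i.2)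

end Groth.Agent.BCHom92
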