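import Groth.Agent.BCHom92.Main
import Groth.Agent.QCoh.DevissageSum
import Groth.Agent.Lib.CurveDeg

/-!
# Indecomposable modules of the same type over an algebraic extension
-/

set_option autoImplicit false
set_option backward.isDefEq.respectTransparency false
set_option backward.isDefEq.respectTransparency.types false

universe u

open CategoryTheory CategoryTheory.Limits AlgebraicGeometry TopologicalSpace Opposite

namespace Groth.Agent.BCHom92

open Groth.Agent

attribute [local instance] QCoh.hasFiniteBiproducts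

/-- Finite sums of coherent modules are coherent. -/
theorem isCoh_coproduct {X : Scheme.{u}} [IsLocallyNoetherian X] {ι : Type} [Fintype ι] (M : ι → X.Modules)
    (hM : ∀ i, Coh.IsCoh (M i)) : Coh.IsCoh (∐ M) := by
  have h := QCoh.isCoh_biproduct (fun x : ULift.{u} ι => M x.down) fun x => hM x.down
  let e : (⨁ fun x : ULift.{u} ι => M x.down) ≅ ∐ M :=
    biproduct.whiskerEquiv (f := fun x : ULift.{u} ι => M x.down) (g := M) Equiv.ulift (fun _ => Iso.refl _) ≪≫
      biproduct.isoCoproduct M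
  have hq := (QCoh.isQCoh_iff_iso e).1 h.1
  exact ⟨hq, (QCoh.isCoh_of_epi e.hom h hq).2⟩

variable {C : Type*} [Category C] [HasFiniteCoproducts C]

/-- A power of a power. -/
noncomputable def powPowIso (W : C) (a b : ℕ) :
    (∐ fun _ : Fin a => ∐ fun _ : Fin b => W) ≅ ∐ fun _ : Fin a × Fin b => W where
  hom := Sigma.desc fun i => Sigma.desc fun x => Sigma.ι (fun _ : Fin a × Fin b => W) (i, x)
  inv := Sigma.desc fun q => Sigma.ι (fun _ : Fin b => W) q.2 ≫ Sigma.ι (fun _ : Fin a => ∐ fun _ : Fin b => W) q.1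
  hom_inv_id := Sigma.hom_ext _ _ fun i => Sigma.hom_ext _ _ fun x => by simp
  inv_hom_id := Sigma.hom_ext _ _ fun q => by simp

variable {k K : Type u} [Field k] [Field K] [Algebra k K] [Algebra.IsAlgebraic k K] {X X' : Scheme.{u}}
  [X.Over (Spec (CommRingCat.of k))] [IsProper (X ↘ Spec (CommRingCat.of k))]
  {π : X' ⟶ X} {q : X' ⟶ Spec (CommRingCat.of K)}

/-- Indecomposable modules whose base changes are powers of the same module are isomorphic. -/
theorem nonempty_iso_of_isotypical
    (h : IsPullback π q (X ↘ Spec (CommRingCat.of k)) (Spec.map (CommRingCat.ofHom (algebraMap k K))))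
    {E E' : X.Modules} (hE : Coh.IsCoh E) (hE' : Coh.IsCoh E') (hi : KS92.Indec E) (hi' : KS92.Indec E')
    (W : X'.Modules) (r s : ℕ) (e : (Scheme.Modules.pullback π).obj E ≅ ∐ fun _ : Fin r => W)
    (e' : (Scheme.Modules.pullback π).obj E' ≅ ∐ fun _ : Fin s => W) : Nonempty (E ≅ E') := by
  haveI := CurveCohLib.isNoetherian_of_proper (k := k) (X := X)
  haveI := (Scheme.Modules.pullbackPushforwardAdjunction π).left_adjoint_additive
  have zero_case : ∀ {A : X.Modules}, Coh.IsCoh A → ¬ IsZero A →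
      ((Scheme.Modules.pullback π).obj A ≅ ∐ fun _ : Fin 0 => W) → False := fun {A} hA hne φ => by
    refine hne ?_
    have hZ : Coh.IsCoh (∐ fun _ : Fin 0 => A) := isCoh_coproduct _ fun _ => hA
    have hzero : ∀ {D : Type (u+1)} [Category.{u} D] [Preadditive D] [HasFiniteCoproducts D] (B : D),
        IsZero (∐ fun _ : Fin 0 => B) := fun B =>
      (IsZero.iff_id_eq_zero _).2 (Sigma.hom_ext _ _ fun i => i.elim0)
    obtain ⟨ψ⟩ := nonempty_iso_of_pullback_iso h hA hZ
      (φ ≪≫ (hzero W).iso ((Scheme.Modules.pullback π).map_isZero (hzero A)))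
    exact (hzero A).of_iso ψ
  rcases Nat.eq_zero_or_pos r with rfl | hr
  · exact (zero_case hE hi.1 e).elim
  rcases Nat.eq_zero_or_pos s with rfl | hs
  · exact (zero_case hE' hi'.1 e').elim
  have hEs : Coh.IsCoh (∐ fun _ : Fin s => E) := isCoh_coproduct _ fun _ => hE
  have hE'r : Coh.IsCoh (∐ fun _ : Fin r => E') := isCoh_coproduct _ fun _ => hE'
  obtain ⟨ψ⟩ := nonempty_iso_of_pullback_iso h hEs hE'r
    ((PreservesCoproduct.iso (Scheme.Modules.pullback π) _) ≪≫ Sigma.mapIso (fun _ => e) ≪≫ powPowIso W s r ≪≫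
      Sigma.whiskerEquiv (Equiv.prodComm (Fin s) (Fin r)) (fun _ => Iso.refl W) ≪≫ (powPowIso W r s).symm ≪≫
      Sigma.mapIso (fun _ => e'.symm) ≪≫ (PreservesCoproduct.iso (Scheme.Modules.pullback π) _).symm)
  haveI := finite_hom (k := k) hEs hEs
  obtain ⟨eq, heq⟩ := KS92.exists_equiv k (F := ∐ fun _ : Fin s => E) (fun _ => hi) (fun _ => hi') (Iso.refl _) ψ
  exact heq ⟨0, hs⟩

end Groth.Agent.BCHom92
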