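import Groth.Agent.QCohColim92.Sections
import Groth.Agent.QCoh.FlatBC
import Groth.Agent.QCoh.ClosedPush
import Groth.Agent.QCoh.SubCompare
import Mathlib.LinearAlgebra.TensorProduct.Basis

/-!
# The direct image of a base change to a field extension is a sum of copies
-/

set_option autoImplicit false
set_option backward.isDefEq.respectTransparency false
set_option backward.isDefEq.respectTransparency.types false

universe u

open CategoryTheory CategoryTheory.Limits AlgebraicGeometry TopologicalSpace Opposite TensorProduct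

namespace Groth.Agent.BCHom92

open Groth.Agent Groth.Agent.QCoh

variable {k K : Type u} [Field k] [CommRing K] [Algebra k K] {X X' : Scheme.{u}}
  {p : X ⟶ Spec (CommRingCat.of k)} {π : X' ⟶ X} {q : X' ⟶ Spec (CommRingCat.of K)}

/-- Multiplication by a scalar of the extension. -/
noncomputable def sc (q : X' ⟶ Spec (CommRingCat.of K)) (r : K) (M : X'.Modules) : M ⟶ M :=
  Formal.smulModΓ M (Coh.toGlobal q r)

variable {β : Type u} (π q)

/-- The comparison component attached to a scalar. -/
noncomputable def cmp (r : K) (G : X.Modules) :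
    G ⟶ (Scheme.Modules.pushforward π).obj ((Scheme.Modules.pullback π).obj G) :=
  (Scheme.Modules.pullbackPushforwardAdjunction π).unit.app G ≫
    (Scheme.Modules.pushforward π).map (sc q r _)

/-- The comparison map. -/
noncomputable def Phi (b : β → K) (G : X.Modules) :
    (∐ fun _ : β => G) ⟶ (Scheme.Modules.pushforward π).obj ((Scheme.Modules.pullback π).obj G) :=
  Sigma.desc fun i => cmp π q (b i) G

/-- Finite sums of sections of the summands. -/
noncomputable def sumSec (G : X.Modules) (V : X.Opens) :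
    (β →₀ Γ(G, V)) →ₗ[Γ(X, V)] Γ((∐ fun _ : β => G), V) :=
  Finsupp.lsum Γ(X, V) fun i => appLin (Sigma.ι (fun _ : β => G) i) V

theorem surjective_sumSec {G : X.Modules} (hG : Coh.IsQCoh G) {V : X.Opens} (hV : IsAffineOpen V) :
    Function.Surjective (sumSec (β := β) G V) := by
  intro y
  classical
  let D := Discrete.functor fun _ : β => G
  let c := colimit.cocone D
  have hD : ∀ j, Coh.IsQCoh (D.obj j) := fun _ => hG
  have hc := QCohColim92.isColimitChart hD (colimit.isColimit D) hV
  let N := (QCohColim92.chartFunctor hV).obj c.pt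
  let R : Submodule Γ(X, V) N :=
    ⨆ j : Discrete β, LinearMap.range ((QCohColim92.chartFunctor hV).map (c.ι.app j)).hom
  have hR : R = ⊤ := by
    have h0 : ModuleCat.ofHom R.mkQ = (0 : N ⟶ ModuleCat.of Γ(X, V) (N ⧸ R)) := hc.hom_ext fun j => by
      rw [comp_zero]
      ext z
      exact (Submodule.Quotient.mk_eq_zero R).2 (Submodule.mem_iSup_of_mem j ⟨z, rfl⟩)
    refine eq_top_iff.2 fun z _ => (Submodule.Quotient.mk_eq_zero R).1 ?_
    exact congr(($h0).hom z)
  have hy : chartEquiv hV c.pt y ∈ R := hR ▸ Submodule.mem_top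
  have hRS : R ≤ LinearMap.range ((chartEquiv hV c.pt).toLinearMap.comp (sumSec G V)) := iSup_le fun ⟨i⟩ => by
    rintro _ ⟨z, rfl⟩
    refine ⟨Finsupp.single i ((chartEquiv hV G).symm z), ?_⟩
    show chartEquiv hV c.pt (sumSec G V _) = _
    rw [sumSec, Finsupp.lsum_single]
    exact (QCohColim92.chart_map hV (c.ι.app ⟨i⟩) _).symm.trans
      (congrArg _ (LinearEquiv.apply_symm_apply _ _))
  obtain ⟨x, hx⟩ := hRS hy
  exact ⟨x, (chartEquiv hV c.pt).injective hx⟩

theorem bijective_Phi_app (h : IsPullback π q p (Spec.map (CommRingCat.ofHom (algebraMap k K))))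
    {G : X.Modules} (hG : Coh.IsQCoh G) (b : Module.Basis β k K) {V : X.Opens} (hV : IsAffineOpen V) :
    Function.Bijective ((Phi π q b G).app V) := by
  classical
  have hbc := isAffineBC_of_isPullback h hG V hV
  let ρ := Coh.toGlobal p
  let ρ' := Coh.toGlobal q
  let M' := (Scheme.Modules.pullback π).obj G
  letI := secModule ρ G V
  letI := secModule ρ' M' (π ⁻¹ᵁ V)
  letI := secModule (ρ'.comp (algebraMap k K)) M' (π ⁻¹ᵁ V)
  haveI : IsScalarTower k K Γ(M', π ⁻¹ᵁ V) := .of_algebraMap_smul fun _ _ => rfl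
  letI : Module k Γ((𝟭 X.Modules).obj G, V) := secModule ρ G V
  let E : K ⊗[k] Γ(G, V) ≃ₗ[K] Γ(M', π ⁻¹ᵁ V) := hbc.equiv
  let U := TensorProduct.equivFinsuppOfBasisLeft (N := Γ(G, V)) b
  have key : ∀ x : β →₀ Γ(G, V), (Phi π q b G).app V (sumSec G V x) = E (U.symm x) := fun x => by
    refine x.induction_linear ?_ (fun a c ha hc => ?_) fun i z => ?_
    · rw [map_zero, map_zero, map_zero, map_zero]
    · rw [map_add, map_add, map_add, map_add, ha, hc]
    · rw [sumSec, Finsupp.lsum_single, TensorProduct.equivFinsuppOfBasisLeft_symm_apply]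
      refine Eq.trans ?_ (congrArg E (Finsupp.sum_single_index (h := fun j n => b j ⊗ₜ[k] n)
        (TensorProduct.tmul_zero _ _)).symm)
      show (Phi π q b G).app V ((Sigma.ι (fun _ : β => G) i).app V z) = _
      rw [← ConcreteCategory.comp_apply, ← Scheme.Modules.Hom.comp_app, Phi, Sigma.ι_desc]
      refine Eq.trans ?_ (hbc.equiv_tmul (b i) z).symm
      let η := (Scheme.Modules.pullbackPushforwardAdjunction π).unit.app G
      show (show Γ(M', π ⁻¹ᵁ V) from (cmp π q (b i) G).app V z) =
        X'.presheaf.map (homOfLE (le_top : π ⁻¹ᵁ V ≤ ⊤)).op (ρ' (b i)) • secMap π η le_rfl z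
      have e : secMap π η (le_refl (π ⁻¹ᵁ V)) z = (show Γ(M', π ⁻¹ᵁ V) from η.app V z) := by
        simp only [secMap]
        exact congr(($(M'.presheaf.map_id (op (π ⁻¹ᵁ V)))) (show Γ(M', π ⁻¹ᵁ V) from η.app V z))
      rw [e]
      rfl
  refine ⟨(injective_iff_map_eq_zero _).2 fun y hy => ?_, fun m => ?_⟩
  · obtain ⟨x, rfl⟩ := surjective_sumSec hG hV y
    rw [key] at hy
    have hx : x = 0 := U.symm.injective (E.injective (hy.trans (by rw [map_zero, map_zero])))
    rw [hx, map_zero]
  · refine ⟨sumSec G V (U (E.symm m)), ?_⟩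
    rw [key, LinearEquiv.symm_apply_apply, LinearEquiv.apply_symm_apply]

theorem isIso_Phi (h : IsPullback π q p (Spec.map (CommRingCat.ofHom (algebraMap k K))))
    {G : X.Modules} (hG : Coh.IsQCoh G) (b : Module.Basis β k K) : IsIso (Phi π q b G) :=
  isIso_of_isBasis _ X.isBasis_affineOpens fun _ hV => bijective_Phi_app π q h hG b hV

end Groth.Agent.BCHom92
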