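import Groth.Agent.SheafHomX.Main
import Groth.Agent.SheafHomX.Smul
import Groth.Agent.SheafHomX.Coherent
import Groth.Agent.CurveCohLib.Proper
import Groth.Prelude.Def_KLin

/-!
# Morphisms of coherent modules on a proper scheme form a finite dimensional space
-/

set_option autoImplicit false
set_option backward.isDefEq.respectTransparency false
set_option backward.isDefEq.respectTransparency.types false

universe u

open CategoryTheory CategoryTheory.Limits AlgebraicGeometry TopologicalSpace Opposite

namespace Groth.Agent.BCHom92

open Groth.Agent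

variable {k : Type u} [Field k] {X : Scheme.{u}} [X.Over (Spec (CommRingCat.of k))]

/-- Morphisms of coherent modules on a proper scheme over a field form a finite dimensional space. -/
theorem finite_hom [IsProper (X ↘ Spec (CommRingCat.of k))] {F G : X.Modules} (hF : Coh.IsCoh F)
    (hG : Coh.IsCoh G) : Module.Finite k (F ⟶ G) := by
  haveI := CurveCohLib.isNoetherian_of_proper (k := k) (X := X)
  have hH : Coh.IsCoh ((SheafHomX.hom F).obj G) := SheafHomX.isCoh_hom hF hG
  haveI := CurveCohLib.finite_HH (k := k) hH 0
  let m : (F ⟶ G) →+ Coh.HH X ((SheafHomX.hom F).obj G) 0 :=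
    { toFun := fun φ => SheafHomX.cls ((SheafHomX.ev F G).symm φ)
      map_zero' := by
        rw [map_zero]
        exact map_zero (Sheaf.H.equiv₀ (Coh.toAb ((SheafHomX.hom F).obj G)) isTerminalTop).symm
      map_add' := fun φ ψ => by
        rw [map_add]
        exact map_add (Sheaf.H.equiv₀ (Coh.toAb ((SheafHomX.hom F).obj G)) isTerminalTop).symm _ _ }
  let L : (F ⟶ G) →ₗ[k] Coh.HH X ((SheafHomX.hom F).obj G) 0 :=
    { m with
      map_smul' := fun a φ => by
        show SheafHomX.cls ((SheafHomX.ev F G).symm (a • φ)) = a • SheafHomX.cls ((SheafHomX.ev F G).symm φ)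
        have e1 : a • φ = φ ≫ Formal.smulMod k G a := by
          rw [KLin.smul_def, Formal.smulMod, Formal.smulMod, KLin.comp_smulModΓ]
        have e2 : (SheafHomX.ev F G).symm (a • φ) =
            (SheafHomX.ev F G).symm φ ≫ (SheafHomX.hom F).map (Formal.smulMod k G a) :=
          (SheafHomX.ev F G).injective (by
            rw [SheafHomX.ev_naturality, AddEquiv.apply_symm_apply, AddEquiv.apply_symm_apply, e1])
        rw [e2, SheafHomX.hom_map_smulMod, ← SheafHomX.map_cls]
        rfl }
  exact Module.Finite.of_injective L fun φ ψ e =>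
    (SheafHomX.ev F G).symm.injective (SheafHomX.cls_injective e)

end Groth.Agent.BCHom92
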