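import Groth.Agent.BCHom92.Hom
import Groth.Agent.BCHom92.Finite
import Groth.Agent.KS92.Exists
import Groth.Agent.ThetaH3.Mor
import Mathlib.FieldTheory.IntermediateField.Adjoin.Basic

/-!
# Isomorphisms of coherent modules descend along algebraic field extensions
-/

set_option autoImplicit false
set_option backward.isDefEq.respectTransparency false
set_option backward.isDefEq.respectTransparency.types false

universe u

open CategoryTheory CategoryTheory.Limits AlgebraicGeometry TopologicalSpace Opposite

namespace Groth.Agent.BCHom92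

open Groth.Agent

/-- The structure constants of a finite algebra satisfy associativity. -/
theorem sum_repr_mul {k L : Type*} [CommRing k] [CommRing L] [Algebra k L] {d : ℕ} (e : Module.Basis (Fin d) k L)
    (y : L) (c b : Fin d) : ∑ l, e.repr y l * e.repr (e l * e c) b = e.repr (y * e c) b := by
  conv_rhs => rw [← e.sum_repr y, Finset.sum_mul, map_sum, Finsupp.finsetSum_apply]
  refine Finset.sum_congr rfl fun l _ => ?_
  rw [smul_mul_assoc, map_smul, Finsupp.smul_apply, smul_eq_mul]

variable {k K : Type u} [Field k] [CommRing K] [Algebra k K] {X X' : Scheme.{u}}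
  [X.Over (Spec (CommRingCat.of k))] {π : X' ⟶ X} {q : X' ⟶ Spec (CommRingCat.of K)}
  (h : IsPullback π q (X ↘ Spec (CommRingCat.of k)) (Spec.map (CommRingCat.ofHom (algebraMap k K))))

theorem sc_mul (r s : K) (M : X'.Modules) : sc q (r * s) M = sc q r M ≫ sc q s M := by
  rw [sc, map_mul, KLin.smulModΓ_mul]
  rfl

/-- `sc` as an additive map. -/
noncomputable def scHom (M : X'.Modules) : K →+ (M ⟶ M) :=
  AddMonoidHom.mk' (fun r => sc q r M) fun r s => by
    simp only [sc, map_add, KLin.smulModΓ_add]

theorem sc_comm {M N : X'.Modules} (f : M ⟶ N) (r : K) : f ≫ sc q r N = sc q r M ≫ f :=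
  KLin.comp_smulModΓ f _

include h in
theorem pullback_smul {F G : X.Modules} (a : k) (f : F ⟶ G) :
    (Scheme.Modules.pullback π).map (a • f) = (Scheme.Modules.pullback π).map f ≫ sc q (algebraMap k K a) _ := by
  rw [sc_comm, KLin.smul_def, Functor.map_comp, Formal.smulMod, ThetaH3.pullback_smulModΓ]
  congr 1
  exact congrArg _ (QCoh.toGlobal_comm _ _ _ h.w a).symm

/-- A base changed morphism times a scalar. -/
noncomputable def term {F G : X.Modules} (f : F ⟶ G) (r : K) :
    (Scheme.Modules.pullback π).obj F ⟶ (Scheme.Modules.pullback π).obj G :=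
  (Scheme.Modules.pullback π).map f ≫ sc q r _

theorem term_comp {F G H : X.Modules} (f : F ⟶ G) (g : G ⟶ H) (r s : K) :
    term (π := π) (q := q) f r ≫ term (π := π) (q := q) g s = term (π := π) (q := q) (f ≫ g) (r * s) := by
  simp only [term, Functor.map_comp, Category.assoc, sc_mul]
  rw [← reassoc_of% (sc_comm ((Scheme.Modules.pullback π).map g) r)]

theorem term_sum_right {F G : X.Modules} (f : F ⟶ G) {ι : Type*} (s : Finset ι) (r : ι → K) :
    term (π := π) (q := q) f (∑ i ∈ s, r i) = ∑ i ∈ s, term (π := π) (q := q) f (r i) := by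
  show _ ≫ scHom _ (∑ i ∈ s, r i) = _
  rw [map_sum, Preadditive.comp_sum]
  rfl

theorem term_sum_left {F G : X.Modules} {ι : Type*} (s : Finset ι) (f : ι → (F ⟶ G)) (r : K) :
    term (π := π) (q := q) (∑ i ∈ s, f i) r = ∑ i ∈ s, term (π := π) (q := q) (f i) r := by
  haveI := (Scheme.Modules.pullbackPushforwardAdjunction π).left_adjoint_additive
  simp only [term, Functor.map_sum, Preadditive.sum_comp]

theorem term_sub {F G : X.Modules} (f g : F ⟶ G) (r : K) :
    term (π := π) (q := q) (f - g) r = term (π := π) (q := q) f r - term (π := π) (q := q) g r := by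
  haveI := (Scheme.Modules.pullbackPushforwardAdjunction π).left_adjoint_additive
  simp only [term, Functor.map_sub, Preadditive.sub_comp]

include h in
theorem term_smul {F G : X.Modules} (a : k) (f : F ⟶ G) (r : K) :
    term (π := π) (q := q) (a • f) r = term (π := π) (q := q) f (a • r) := by
  rw [Algebra.smul_def, term, term, pullback_smul h, Category.assoc, sc_mul]

/-- Endomorphisms of finite sums. -/
theorem finite_end_pow {F : X.Modules} [Module.Finite k (F ⟶ F)] (d : ℕ) :
    Module.Finite k ((∐ fun _ : Fin d => F) ⟶ (∐ fun _ : Fin d => F)) := by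
  let L : ((∐ fun _ : Fin d => F) ⟶ (∐ fun _ : Fin d => F)) →ₗ[k] (Fin d → Fin d → (F ⟶ F)) :=
    LinearMap.pi fun a => LinearMap.pi fun c =>
      (Linear.leftComp k F (Sigma.ι (fun _ : Fin d => F) a)).comp
        (Linear.rightComp k _ (KS92.proj (fun _ : Fin d => F) c))
  refine Module.Finite.of_injective L fun z w hzw => Sigma.hom_ext _ _ fun a => ?_
  have := fun c => congr_fun (congr_fun hzw a) c
  simp only [L, LinearMap.pi_apply, LinearMap.comp_apply, Linear.leftComp_apply, Linear.rightComp_apply] at this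
  rw [← Category.comp_id (Sigma.ι _ a ≫ z), ← Category.comp_id (Sigma.ι _ a ≫ w), ← KS92.sum_proj_ι,
    Preadditive.comp_sum, Preadditive.comp_sum]
  exact Finset.sum_congr rfl fun c _ => by simp only [Category.assoc, reassoc_of% (this c)]

include h in
/-- An isomorphism of base changes with coefficients in a finite family gives an isomorphism of powers. -/
theorem exists_pow_iso {F G : X.Modules} (hF : Coh.IsQCoh F) (hG : Coh.IsQCoh G) {L : Type u} [CommRing L]
    [Algebra k L] (ι : L →ₐ[k] K) (hι : Function.Injective ι) {d : ℕ} (e : Module.Basis (Fin d) k L)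
    (f : Fin d → (F ⟶ G)) (g : Fin d → (G ⟶ F))
    (hfg : (∑ i, term (π := π) (q := q) (f i) (ι (e i))) ≫ (∑ i, term (π := π) (q := q) (g i) (ι (e i))) = 𝟙 _)
    (hgf : (∑ i, term (π := π) (q := q) (g i) (ι (e i))) ≫ (∑ i, term (π := π) (q := q) (f i) (ι (e i))) = 𝟙 _) :
    Nonempty ((∐ fun _ : Fin d => F) ≅ ∐ fun _ : Fin d => G) := by
  classical
  have hv : LinearIndependent k fun i => ι (e i) :=
    e.linearIndependent.map' ι.toLinearMap (LinearMap.ker_eq_bot.2 hι)
  have main : ∀ {A B : X.Modules} (_ : Coh.IsQCoh A) (a : Fin d → (A ⟶ B)) (b : Fin d → (B ⟶ A)),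
      (∑ i, term (π := π) (q := q) (a i) (ι (e i))) ≫ (∑ i, term (π := π) (q := q) (b i) (ι (e i))) = 𝟙 _ →
      (Sigma.desc fun c => ∑ x, (∑ i, e.repr (e i * e c) x • a i) ≫ Sigma.ι (fun _ : Fin d => B) x) ≫
        (Sigma.desc fun c => ∑ x, (∑ i, e.repr (e i * e c) x • b i) ≫ Sigma.ι (fun _ : Fin d => A) x) =
      𝟙 (∐ fun _ : Fin d => A) := by
    intro A B hA a b hab
    have hl : ∀ l, ∑ i, ∑ j, e.repr (e i * e j) l • (a i ≫ b j) = e.repr 1 l • 𝟙 A := by
      intro l
      refine sub_eq_zero.1 (eq_zero_of_sum h hv hA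
        (fun l => (∑ i, ∑ j, e.repr (e i * e j) l • (a i ≫ b j)) - e.repr 1 l • 𝟙 A) ?_ l)
      show ∑ l, term (π := π) (q := q) ((∑ i, ∑ j, e.repr (e i * e j) l • (a i ≫ b j)) - e.repr 1 l • 𝟙 A) (ι (e l)) = 0
      simp only [term_sub, term_sum_left, term_smul h, Finset.sum_sub_distrib]
      rw [← term_sum_right]
      have h1 : ∑ l, e.repr 1 l • ι (e l) = 1 := by
        simp_rw [← map_smul]
        rw [← map_sum, e.sum_repr, map_one]
      rw [h1, sub_eq_zero, Finset.sum_comm]
      have h2 : term (π := π) (q := q) (𝟙 A) (1 : K) = 𝟙 _ := by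
        rw [term, sc, map_one, KLin.smulModΓ_one, CategoryTheory.Functor.map_id, Category.comp_id]
      rw [h2, ← hab, Preadditive.sum_comp]
      refine Finset.sum_congr rfl fun i _ => ?_
      rw [Finset.sum_comm, Preadditive.comp_sum]
      refine Finset.sum_congr rfl fun j _ => ?_
      rw [← term_sum_right, term_comp]
      simp_rw [← map_smul]
      rw [← map_sum, e.sum_repr, map_mul]
    refine Sigma.hom_ext _ _ fun c => ?_
    rw [Sigma.ι_desc_assoc, Category.comp_id, Preadditive.sum_comp]
    simp only [Category.assoc, Sigma.ι_desc]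
    simp only [Preadditive.sum_comp, Preadditive.comp_sum, Linear.smul_comp, Linear.comp_smul]
    simp only [Finset.smul_sum, smul_smul]
    rw [Finset.sum_comm]
    have key : ∀ y, ∑ x, ∑ j, ∑ i, (e.repr (e j * e x) y * e.repr (e i * e c) x) • (a i ≫ b j) =
        (if c = y then (1 : k) else 0) • 𝟙 A := fun y => by
      have e1 : ∀ i j, ∑ x, e.repr (e j * e x) y * e.repr (e i * e c) x =
          ∑ l, e.repr (e i * e j) l * e.repr (e l * e c) y := fun i j => by
        rw [sum_repr_mul, mul_right_comm, ← sum_repr_mul e (e i * e c)]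
        exact Finset.sum_congr rfl fun x _ => by rw [mul_comm, mul_comm (e j) (e x)]
      calc _ = ∑ i, ∑ j, (∑ x, e.repr (e j * e x) y * e.repr (e i * e c) x) • (a i ≫ b j) := by
            simp_rw [Finset.sum_smul]
            exact Finset.sum_comm.trans ((Finset.sum_congr rfl fun j _ => Finset.sum_comm).trans Finset.sum_comm)
        _ = ∑ l, e.repr (e l * e c) y • ∑ i, ∑ j, e.repr (e i * e j) l • (a i ≫ b j) := by
            simp_rw [e1, Finset.sum_smul, Finset.smul_sum, smul_smul]
            exact (Finset.sum_congr rfl fun i _ => Finset.sum_comm.trans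
              (Finset.sum_congr rfl fun l _ => Finset.sum_congr rfl fun j _ => by rw [mul_comm])).trans Finset.sum_comm
        _ = (∑ l, e.repr 1 l * e.repr (e l * e c) y) • 𝟙 A := by
            simp_rw [hl, smul_smul, Finset.sum_smul]
            exact Finset.sum_congr rfl fun l _ => by rw [mul_comm]
        _ = _ := by rw [sum_repr_mul, one_mul, e.repr_self, Finsupp.single_apply]
    calc _ = ∑ y, (∑ x, ∑ j, ∑ i, (e.repr (e j * e x) y * e.repr (e i * e c) x) • (a i ≫ b j)) ≫
          Sigma.ι (fun _ : Fin d => A) y := by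
          simp only [Preadditive.sum_comp, Linear.smul_comp, Category.assoc]
      _ = _ := by simp [key, Linear.smul_comp, ite_smul, ite_comp, Finset.sum_ite_eq]
  exact ⟨⟨_, _, main hF f g hfg, main hG g f hgf⟩⟩

end Groth.Agent.BCHom92
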