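import Groth.Agent.BCHom92.Descent
import Groth.Agent.BCHom92.AlgMat
import Groth.Agent.H23.EndInv
import Groth.Agent.Lib.CurveEnd
import Groth.Agent.Lib.CurveDeg

/-!
# Endomorphisms of a module that splits into copies of an invertible module
-/

set_option autoImplicit false
set_option backward.isDefEq.respectTransparency false
set_option backward.isDefEq.respectTransparency.types false

universe u

open CategoryTheory CategoryTheory.Limits AlgebraicGeometry TopologicalSpace Opposite

namespace Groth.Agent.BCHom92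

open Groth.Agent

section Line

variable {K : Type u} [Field K] [IsAlgClosed K] {X' : Scheme.{u}} [IsIntegral X']
  {q : X' ⟶ Spec (CommRingCat.of K)} [IsProper q] {L : X'.Modules}

theorem sc_one (M : X'.Modules) : sc q 1 M = 𝟙 M := by rw [sc, map_one, KLin.smulModΓ_one]

theorem exists_sc_eq (hL : PicF.IsInvertible L) (v : L ⟶ L) : ∃ c : K, sc q c L = v := by
  letI : X'.Over (Spec (CommRingCat.of K)) := ⟨q⟩
  haveI : IsProper (X' ↘ Spec (CommRingCat.of K)) := ‹IsProper q›
  obtain ⟨s, hs⟩ := H23.EndInv.exists_coeff hL v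
  obtain ⟨c, hc⟩ := (CurveEnd.toGlobal_bijective (k := K) (X := X')).2 s
  refine ⟨c, Scheme.Modules.hom_ext _ _ fun U => ?_⟩
  ext m
  rw [hs U m, ← hc]
  rfl

theorem sc_injective (hL : ¬ IsZero L) {c d : K} (h : sc q c L = sc q d L) : c = d := by
  by_contra hne
  have h0 : sc q (c - d) L = 0 := by
    show scHom (q := q) L (c - d) = 0
    rw [map_sub, sub_eq_zero]
    exact h
  refine hL ((IsZero.iff_id_eq_zero L).2 ?_)
  rw [← sc_one (q := q) L, ← mul_inv_cancel₀ (sub_ne_zero.2 hne), sc_mul, h0, zero_comp]

variable (q L) in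
/-- The endomorphism of `L^r` given by a matrix. -/
noncomputable def toEndM {r : ℕ} (M : Matrix (Fin r) (Fin r) K) :
    (∐ fun _ : Fin r => L) ⟶ ∐ fun _ : Fin r => L :=
  Sigma.desc fun c => ∑ a, sc q (M a c) L ≫ Sigma.ι (fun _ : Fin r => L) a

omit [IsAlgClosed K] [IsIntegral X'] [IsProper q] in
theorem toEndM_ι {r : ℕ} (M : Matrix (Fin r) (Fin r) K) (c : Fin r) :
    Sigma.ι (fun _ : Fin r => L) c ≫ toEndM q L M =
      ∑ a, sc q (M a c) L ≫ Sigma.ι (fun _ : Fin r => L) a :=
  Sigma.ι_desc _ _

omit [IsAlgClosed K] [IsIntegral X'] [IsProper q] in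
theorem toEndM_mul {r : ℕ} (M N : Matrix (Fin r) (Fin r) K) :
    toEndM q L (M * N) = toEndM q L N ≫ toEndM q L M := by
  refine Sigma.hom_ext _ _ fun c => ?_
  refine (toEndM_ι (M * N) c).trans ?_
  rw [← Category.assoc, toEndM_ι, Preadditive.sum_comp]
  simp only [Category.assoc, toEndM_ι, Preadditive.comp_sum]
  rw [Finset.sum_comm]
  refine Finset.sum_congr rfl fun b _ => ?_
  show scHom (q := q) L (∑ a, M b a * N a c) ≫ _ = _
  rw [map_sum, Preadditive.sum_comp]
  refine Finset.sum_congr rfl fun a _ => ?_
  show sc q (M b a * N a c) L ≫ _ = _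
  rw [mul_comm, sc_mul, Category.assoc]

variable (q) in
/-- Endomorphisms of `L^r` are matrices. -/
noncomputable def matEquiv (hL : PicF.IsInvertible L) (hL0 : ¬ IsZero L) (r : ℕ) :
    Matrix (Fin r) (Fin r) K ≃+* End (∐ fun _ : Fin r => L) :=
  RingEquiv.ofBijective
    ({
      toFun := fun M => (toEndM q L M : End (∐ fun _ : Fin r => L))
      map_one' := by
        refine Sigma.hom_ext _ _ fun c => (toEndM_ι 1 c).trans ?_
        rw [Finset.sum_eq_single c]
        · rw [Matrix.one_apply_eq, sc_one, Category.id_comp]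
          exact (Category.comp_id _).symm
        · intro a _ ha
          show scHom (q := q) L ((1 : Matrix (Fin r) (Fin r) K) a c) ≫ _ = 0
          rw [Matrix.one_apply_ne ha, map_zero, zero_comp]
        · simp
      map_mul' := toEndM_mul
      map_zero' := by
        refine Sigma.hom_ext _ _ fun c => (toEndM_ι 0 c).trans ?_
        refine (Finset.sum_eq_zero fun a _ => ?_).trans comp_zero.symm
        show scHom (q := q) L (0 : K) ≫ _ = 0
        rw [map_zero, zero_comp]
      map_add' := fun M N => by
        refine Sigma.hom_ext _ _ fun c => (toEndM_ι (M + N) c).trans ?_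
        show _ = Sigma.ι (fun _ : Fin r => L) c ≫ (toEndM q L M + toEndM q L N)
        rw [Preadditive.comp_add]
        rw [toEndM_ι, toEndM_ι, ← Finset.sum_add_distrib]
        refine Finset.sum_congr rfl fun a _ => ?_
        show scHom (q := q) L (M a c + N a c) ≫ _ = _
        rw [map_add, Preadditive.add_comp]
        rfl } : Matrix (Fin r) (Fin r) K →+* End (∐ fun _ : Fin r => L))
    (by
      constructor
      · intro M N h
        refine Matrix.ext fun a c => sc_injective (q := q) hL0 ?_
        have h' := congrArg (fun z : End (∐ fun _ : Fin r => L) =>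
          Sigma.ι (fun _ : Fin r => L) c ≫ (show (∐ fun _ : Fin r => L) ⟶ _ from z) ≫ KS92.proj (fun _ : Fin r => L) a) h
        simp only [RingHom.coe_mk, MonoidHom.coe_mk, OneHom.coe_mk, ← Category.assoc, toEndM_ι,
          Preadditive.sum_comp] at h'
        rw [Finset.sum_eq_single a, Finset.sum_eq_single a] at h'
        · simpa using h'
        all_goals first
          | (intro b _ hb; rw [Category.assoc, KS92.ι_proj_ne _ hb, comp_zero])
          | simp
      · intro z
        choose c hc using fun a b => exists_sc_eq (q := q) hL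
          (Sigma.ι (fun _ : Fin r => L) b ≫ (show (∐ fun _ : Fin r => L) ⟶ _ from z) ≫ KS92.proj (fun _ : Fin r => L) a)
        refine ⟨Matrix.of c, Sigma.hom_ext _ _ fun b => (toEndM_ι _ b).trans ?_⟩
        simp only [Matrix.of_apply, hc, Category.assoc]
        rw [← Preadditive.comp_sum, ← Preadditive.comp_sum, KS92.sum_proj_ι, Category.comp_id])

omit [IsAlgClosed K] [IsIntegral X'] [IsProper q] in
theorem toEndM_smul {r : ℕ} (c : K) (M : Matrix (Fin r) (Fin r) K) :
    toEndM q L (c • M) = toEndM q L M ≫ sc q c _ := by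
  refine Sigma.hom_ext _ _ fun b => ?_
  show Sigma.ι (fun _ : Fin r => L) b ≫ toEndM q L (c • M) =
    Sigma.ι (fun _ : Fin r => L) b ≫ toEndM q L M ≫ sc q c _
  rw [toEndM_ι, ← Category.assoc, toEndM_ι, Preadditive.sum_comp]
  refine Finset.sum_congr rfl fun a _ => ?_
  rw [Category.assoc, sc_comm, ← Category.assoc, ← sc_mul, Matrix.smul_apply, smul_eq_mul, mul_comm]

end Line

variable {k K : Type u} [Field k] [Field K] [Algebra k K] [IsAlgClosed K] [Algebra.IsAlgebraic k K]
  {X X' : Scheme.{u}} [X.Over (Spec (CommRingCat.of k))] [IsProper (X ↘ Spec (CommRingCat.of k))]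
  {π : X' ⟶ X} {q : X' ⟶ Spec (CommRingCat.of K)} [IsProper q] [IsIntegral X']
  (h : IsPullback π q (X ↘ Spec (CommRingCat.of k)) (Spec.map (CommRingCat.ofHom (algebraMap k K))))
  {E : X.Modules} {L : X'.Modules} {r : ℕ}

include h in
/-- The matrix form of the endomorphisms of a module that becomes a power of an invertible module. -/
theorem exists_form (hE : Coh.IsCoh E) (hL : PicF.IsInvertible L) (hL0 : ¬ IsZero L)
    (e : (Scheme.Modules.pullback π).obj E ≅ ∐ fun _ : Fin r => L) :
    ∃ Φ : End E →+* Matrix (Fin r) (Fin r) K,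
      (∀ (c : k) (a : End E), Φ (c • a) = algebraMap k K c • Φ a) ∧
      (∀ M : Matrix (Fin r) (Fin r) K, ∃ (ι : Type) (_ : Fintype ι) (c : ι → K) (a : ι → End E),
        M = ∑ i, c i • Φ (a i)) ∧
      (∀ {β : Type u} (b : Module.Basis β k K) (S : Finset β) (f : β → End E),
        ∑ i ∈ S, b i • Φ (f i) = 0 → ∀ i ∈ S, f i = 0) := by
  classical
  haveI := CurveCohLib.isNoetherian_of_proper (k := k) (X := X)
  haveI := (Scheme.Modules.pullbackPushforwardAdjunction π).left_adjoint_additive
  let θ : End ((Scheme.Modules.pullback π).obj E) ≃+* End (∐ fun _ : Fin r => L) :=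
    { e.conj with
      map_add' := fun x y => by
        show e.inv ≫ (x + y) ≫ e.hom = e.inv ≫ x ≫ e.hom + e.inv ≫ y ≫ e.hom
        rw [← Preadditive.comp_add, ← Preadditive.add_comp] }
  let T := (θ.trans (matEquiv q hL hL0 r).symm)
  let Φ : End E →+* Matrix (Fin r) (Fin r) K :=
    T.toRingHom.comp
      { toFun := fun a => (Scheme.Modules.pullback π).map a
        map_one' := CategoryTheory.Functor.map_id _ _
        map_mul' := fun a b => Functor.map_comp _ _ _
        map_zero' := Functor.map_zero _ _ _
        map_add' := fun a b => Functor.map_add _ }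
  have hT : ∀ (c : K) (a : E ⟶ E), T.symm (c • Φ a) = term (π := π) (q := q) a c := fun c a => by
    show θ.symm (matEquiv q hL hL0 r (c • Φ a)) = _
    apply θ.injective
    rw [RingEquiv.apply_symm_apply]
    show _ = e.conj (term (π := π) (q := q) a c)
    rw [Iso.conj_apply, term, Category.assoc, ← sc_comm e.hom]
    refine (toEndM_smul c (Φ a)).trans ?_
    have hΦ : toEndM q L (Φ a) = θ ((Scheme.Modules.pullback π).map a) :=
      (matEquiv q hL hL0 r).apply_symm_apply _
    rw [hΦ]
    show e.conj _ ≫ _ = _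
    rw [Iso.conj_apply]
    simp only [Category.assoc]
  refine ⟨Φ, fun c a => T.symm.injective ?_, fun M => ?_, fun {β} b S f hz => ?_⟩
  · rw [hT]
    refine (T.symm_apply_apply _).trans ?_
    exact (pullback_smul h c a).trans rfl
  · obtain ⟨S, f, hf⟩ := exists_sum h (Module.Free.chooseBasis k K) hE hE.1 (T.symm M)
    refine ⟨Fin S.card, inferInstance, fun i => Module.Free.chooseBasis k K (S.equivFin.symm i).1,
      fun i => f (S.equivFin.symm i).1, T.symm.injective ?_⟩
    refine hf.trans (Eq.trans ?_ (map_sum T.symm _ _).symm)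
    rw [← Finset.sum_coe_sort S, ← S.equivFin.symm.sum_comp]
    exact Finset.sum_congr rfl fun i _ => (hT _ _).symm
  · refine eq_zero_of_sum_basis h b hE.1 S f ?_
    have h0 := congrArg T.symm hz
    rw [map_sum, map_zero] at h0
    exact ((Finset.sum_congr rfl fun i _ => (hT _ _).symm).trans h0 :)

end Groth.Agent.BCHom92
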