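import Groth.Agent.BCHom92.Form
import Mathlib.AlgebraicGeometry.Geometrically.Integral

/-!
# The endomorphism ring of an absolutely rank-one-isotypical module
-/

set_option autoImplicit false
set_option backward.isDefEq.respectTransparency false
set_option backward.isDefEq.respectTransparency.types false

universe u

open CategoryTheory CategoryTheory.Limits AlgebraicGeometry TopologicalSpace Opposite

namespace Groth.Agent.BCHom92

open Groth.Agent

section Zero

variable {k K : Type u} [Field k] [CommRing K] [Algebra k K] {X X' : Scheme.{u}}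
  {p : X ⟶ Spec (CommRingCat.of k)} {π : X' ⟶ X} {q : X' ⟶ Spec (CommRingCat.of K)}
  (h : IsPullback π q p (Spec.map (CommRingCat.ofHom (algebraMap k K))))

include h in
/-- Base change reflects zero objects. -/
theorem isZero_of_isZero_pullback {E : X.Modules} (hE : Coh.IsQCoh E) [Nontrivial K]
    (hz : IsZero ((Scheme.Modules.pullback π).obj E)) : IsZero E := by
  classical
  obtain ⟨i⟩ := (Module.Free.chooseBasis k K).index_nonempty
  exact (IsZero.iff_id_eq_zero E).2
    (eq_zero_of_sum_basis h (Module.Free.chooseBasis k K) hE {i} (fun _ => 𝟙 E) (hz.eq_of_tgt _ _) i (by simp))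

end Zero

variable {k K : Type u} [Field k] [Field K] [Algebra k K] [IsAlgClosed K] [Algebra.IsAlgebraic k K]
  {X : Scheme.{u}} (p : X ⟶ Spec (CommRingCat.of k)) [IsProper p] [GeometricallyIntegral p]

omit [IsAlgClosed K] [Algebra.IsAlgebraic k K] [IsProper p] in
theorem isIntegral_bc : IsIntegral (pullback p (Spec.map (CommRingCat.ofHom (algebraMap k K)))) := by
  haveI : Subsingleton ↥(Spec (CommRingCat.of K)) := inferInstanceAs (Subsingleton (PrimeSpectrum K))
  exact GeometricallyIntegral.isIntegral_of_subsingleton (pullback.snd _ _)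

theorem nontrivial_and_form {E : X.Modules} (hE : FlatMod.IsFinLocFree E) (hE0 : ¬ IsZero E)
    {L : (pullback p (Spec.map (CommRingCat.ofHom (algebraMap k K)))).Modules} (hL : PicF.IsInvertible L) {r : ℕ}
    (e : (Scheme.Modules.pullback (pullback.fst _ _)).obj E ≅ ∐ fun _ : Fin r => L) :
    letI : X.Over (Spec (CommRingCat.of k)) := ⟨p⟩
    0 < r ∧ ∃ Φ : End E →+* Matrix (Fin r) (Fin r) K,
      (∀ (c : k) (a : End E), Φ (c • a) = algebraMap k K c • Φ a) ∧
      (∀ M : Matrix (Fin r) (Fin r) K, ∃ (ι : Type) (_ : Fintype ι) (c : ι → K) (a : ι → End E),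
        M = ∑ i, c i • Φ (a i)) ∧
      (∀ {β : Type u} (b : Module.Basis β k K) (S : Finset β) (f : β → End E),
        ∑ i ∈ S, b i • Φ (f i) = 0 → ∀ i ∈ S, f i = 0) := by
  letI : X.Over (Spec (CommRingCat.of k)) := ⟨p⟩
  haveI : IsProper (X ↘ Spec (CommRingCat.of k)) := ‹IsProper p›
  haveI := CurveCohLib.isNoetherian_of_proper (k := k) (X := X)
  haveI := isIntegral_bc (K := K) p
  have hp : IsPullback (pullback.fst p (Spec.map (CommRingCat.ofHom (algebraMap k K)))) (pullback.snd _ _)
      (X ↘ Spec (CommRingCat.of k)) (Spec.map (CommRingCat.ofHom (algebraMap k K))) :=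
    IsPullback.of_hasPullback _ _
  have hC := CurveDeg.isCoh_of_isFinLocFree hE
  have hnz : ¬ IsZero (∐ fun _ : Fin r => L) := fun hz =>
    hE0 (isZero_of_isZero_pullback hp hC.1 (hz.of_iso e))
  have hr : 0 < r := Nat.pos_of_ne_zero fun h0 => hnz <| (IsZero.iff_id_eq_zero _).2
    (Sigma.hom_ext _ _ fun i => (Fin.cast h0 i).elim0)
  have hL0 : ¬ IsZero L := fun hz => hnz <| (IsZero.iff_id_eq_zero _).2
    (Sigma.hom_ext _ _ fun _ => hz.eq_of_src _ _)
  exact ⟨hr, exists_form hp hC hL hL0 e⟩

theorem isIso_of_ne_zero {E : X.Modules} (hE : FlatMod.IsFinLocFree E) (hEi : KS92.Indec E)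
    {L : (pullback p (Spec.map (CommRingCat.ofHom (algebraMap k K)))).Modules} (hL : PicF.IsInvertible L) {r : ℕ}
    (e : (Scheme.Modules.pullback (pullback.fst _ _)).obj E ≅ ∐ fun _ : Fin r => L) (f : E ⟶ E) (hf : f ≠ 0) :
    IsIso f := by
  letI : X.Over (Spec (CommRingCat.of k)) := ⟨p⟩
  haveI : IsProper (X ↘ Spec (CommRingCat.of k)) := ‹IsProper p›
  haveI := CurveCohLib.isNoetherian_of_proper (k := k) (X := X)
  obtain ⟨-, Φ, -, hsurj, hind⟩ := nontrivial_and_form p hE hEi.1 hL e
  have hC := CurveDeg.isCoh_of_isFinLocFree hE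
  haveI : Module.Finite k (End E) := finite_hom (k := k) hC hC
  refine (isUnit_iff_isIso (C := X.Modules) f).1 (isUnit_of_ne_zero (k := k) Φ (KS92.idem_trivial hEi) ?_ hsurj hf)
  refine (injective_iff_map_eq_zero Φ).2 fun a ha => ?_
  obtain ⟨i⟩ := (Module.Free.chooseBasis k K).index_nonempty
  exact hind (Module.Free.chooseBasis k K) {i} (fun _ => a) (by simp [ha]) i (by simp)

theorem isSimpleRing_end {E : X.Modules} (hE : FlatMod.IsFinLocFree E) (hE0 : ¬ IsZero E)
    {L : (pullback p (Spec.map (CommRingCat.ofHom (algebraMap k K)))).Modules} (hL : PicF.IsInvertible L) {r : ℕ}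
    (e : (Scheme.Modules.pullback (pullback.fst _ _)).obj E ≅ ∐ fun _ : Fin r => L) :
    IsSimpleRing (End E) := by
  letI : X.Over (Spec (CommRingCat.of k)) := ⟨p⟩
  obtain ⟨hr, Φ, hk, hsurj, hind⟩ := nontrivial_and_form p hE hE0 hL e
  exact isSimpleRing_of_form Φ hr hk hsurj hind

end Groth.Agent.BCHom92
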