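import Groth.Agent.BCHom92.Form
import Groth.Agent.BCHom92.Apps
import Groth.Agent.KS92.Retract
import Groth.Agent.ZClosLib.CohDescent
import Groth.Agent.QCohAb92.Abelian
import Mathlib.FieldTheory.Galois.GaloisClosure
import Mathlib.FieldTheory.Fixed
import Mathlib.FieldTheory.IsSepClosed

/-!
# Summands over a Galois extension of a module defined over the base field
-/

set_option autoImplicit false
set_option backward.isDefEq.respectTransparency false
set_option backward.isDefEq.respectTransparency.types false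

universe u

open CategoryTheory CategoryTheory.Limits AlgebraicGeometry TopologicalSpace Opposite

namespace Groth.Agent.BCHom92

open Groth.Agent

variable {k K : Type u} [Field k] [Field K] [Algebra k K] {X X' : Scheme.{u}}
  [X.Over (Spec (CommRingCat.of k))] {π : X' ⟶ X} {q : X' ⟶ Spec (CommRingCat.of K)}
  (h : IsPullback π q (X ↘ Spec (CommRingCat.of k)) (Spec.map (CommRingCat.ofHom (algebraMap k K))))

theorem toEndM_one {L : X'.Modules} {r : ℕ} :
    toEndM q L (1 : Matrix (Fin r) (Fin r) K) = 𝟙 _ := by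
  refine Sigma.hom_ext _ _ fun c => (toEndM_ι 1 c).trans ?_
  rw [Finset.sum_eq_single c]
  · rw [Matrix.one_apply_eq, sc, map_one, KLin.smulModΓ_one, Category.id_comp]
    exact (Category.comp_id _).symm
  · intro a _ ha
    show scHom (q := q) L ((1 : Matrix (Fin r) (Fin r) K) a c) ≫ _ = 0
    rw [Matrix.one_apply_ne ha, map_zero, zero_comp]
  · simp

section Twist

variable (σ : K ≃ₐ[k] K) (g : X' ⟶ X') (hg₁ : g ≫ π = π)
  (hg₂ : g ≫ q = q ≫ Spec.map (CommRingCat.ofHom (σ : K →+* K)))

/-- The base change of a module is invariant under automorphisms over the base. -/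
noncomputable def twistIso : Scheme.Modules.pullback π ⋙ Scheme.Modules.pullback g ≅ Scheme.Modules.pullback π :=
  Scheme.Modules.pullbackComp g π ≪≫ Scheme.Modules.pullbackCongr hg₁

include hg₂ in
/-- An automorphism over the base acts on the scalars. -/
theorem twist_term {A B : X.Modules} (f : A ⟶ B) (c : K) :
    (Scheme.Modules.pullback g).map (term (π := π) (q := q) f c) ≫ (twistIso g hg₁).hom.app B =
      (twistIso g hg₁).hom.app A ≫ term (π := π) (q := q) f (σ c) := by
  have hc : g.appTop (Coh.toGlobal q c) = Coh.toGlobal q (σ c) := by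
    have h1 : g.appTop (Coh.toGlobal q c) = Coh.toGlobal (g ≫ q) c := rfl
    rw [h1, hg₂]
    show q.appTop ((Spec.map (CommRingCat.ofHom (σ : K →+* K))).appTop
      ((Scheme.ΓSpecIso (CommRingCat.of K)).inv c)) = _
    exact congrArg q.appTop
      (congr($(Scheme.ΓSpecIso_inv_naturality (CommRingCat.ofHom (σ : K →+* K))) c)).symm
  rw [term, term, Functor.map_comp, Category.assoc, sc, sc, ThetaH3.pullback_smulModΓ, hc, ← Category.assoc ((twistIso g hg₁).hom.app A)]
  rw [← (twistIso g hg₁).hom.naturality f, Category.assoc]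
  exact congrArg (fun z => (Scheme.Modules.pullback g).map ((Scheme.Modules.pullback π).map f) ≫ z)
    (KLin.comp_smulModΓ ((twistIso g hg₁).hom.app B) (Coh.toGlobal q (σ c))).symm

end Twist

section Diag

variable {d : ℕ} {L : Type u} [Field L] [Algebra k L] (e : Module.Basis (Fin d) k L) (τ : Fin d → (L →ₐ[k] K))

/-- Evaluating a linear combination of basis vectors. -/
theorem sum_repr_smul (σ : L →ₐ[k] K) (y : L) : ∑ x, e.repr y x • σ (e x) = σ y := by
  simp_rw [← map_smul]
  rw [← map_sum, e.sum_repr]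

theorem isUnit_det_embeddings (hτ : Function.Injective τ) :
    IsUnit (Matrix.of fun a c => τ a (e c)) := by
  rw [← Matrix.linearIndependent_rows_iff_isUnit]
  have hli := (linearIndependent_toLinearMap k L K).comp τ hτ
  exact hli.map' (e.constr K).symm.toLinearMap (LinearMap.ker_eq_bot.2 (e.constr K).symm.injective)

include h in
/-- An idempotent with coefficients in a Galois subextension gives an idempotent over the base, which
is diagonal over the extension with the conjugate idempotents as entries. -/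
theorem exists_descended_splitting (hτ : Function.Injective τ) (hd : 0 < d) {M : X.Modules}
    (hM : Coh.IsQCoh M) (hMd : Coh.IsQCoh (∐ fun _ : Fin d => M))
    (a : Fin d → (M ⟶ M)) (Wf : Fin d → X'.Modules) (ι' : ∀ j, Wf j ⟶ (Scheme.Modules.pullback π).obj M)
    (π' : ∀ j, (Scheme.Modules.pullback π).obj M ⟶ Wf j) (h1 : ∀ j, ι' j ≫ π' j = 𝟙 _)
    (h2 : ∀ j, π' j ≫ ι' j = ∑ i, term (π := π) (q := q) (a i) (τ j (e i))) :
    ∃ (N : X.Modules) (i : N ⟶ ∐ fun _ : Fin d => M) (r : (∐ fun _ : Fin d => M) ⟶ N), i ≫ r = 𝟙 N ∧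
      Nonempty ((Scheme.Modules.pullback π).obj N ≅ ∐ Wf) := by
  classical
  haveI := (Scheme.Modules.pullbackPushforwardAdjunction π).left_adjoint_additive
  let P := Scheme.Modules.pullback π
  let ρ : (∐ fun _ : Fin d => M) ⟶ ∐ fun _ : Fin d => M :=
    Sigma.desc fun c => ∑ x, (∑ i, e.repr (e i * e c) x • a i) ≫ Sigma.ι (fun _ : Fin d => M) x
  let Mx : Matrix (Fin d) (Fin d) K := Matrix.of fun a c => τ a (e c)
  obtain ⟨u, hu⟩ := isUnit_det_embeddings e τ hτ
  let iso : P.obj (∐ fun _ : Fin d => M) ≅ ∐ fun _ : Fin d => P.obj M := PreservesCoproduct.iso P _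
  have hι : ∀ c, P.map (Sigma.ι (fun _ : Fin d => M) c) ≫ iso.hom = Sigma.ι (fun _ : Fin d => P.obj M) c :=
    fun c => by
      rw [← Iso.eq_comp_inv, PreservesCoproduct.inv_hom, ι_comp_sigmaComparison]
  let V : (∐ fun _ : Fin d => P.obj M) ≅ ∐ fun _ : Fin d => P.obj M :=
    { hom := toEndM q (P.obj M) Mx
      inv := toEndM q (P.obj M) (↑u⁻¹ : Matrix (Fin d) (Fin d) K)
      hom_inv_id := by rw [← toEndM_mul, ← toEndM_one (q := q) (L := P.obj M) (r := d)]; congr 1; rw [show Mx = _ from hu.symm, Units.inv_mul]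
      inv_hom_id := by rw [← toEndM_mul, ← toEndM_one (q := q) (L := P.obj M) (r := d)]; congr 1; rw [show Mx = _ from hu.symm, Units.mul_inv] }
  let D : (∐ fun _ : Fin d => P.obj M) ⟶ ∐ fun _ : Fin d => P.obj M :=
    Limits.Sigma.map fun j => π' j ≫ ι' j
  let U := iso ≪≫ V
  have key : P.map ρ ≫ U.hom = U.hom ≫ D := by
    rw [← cancel_epi iso.inv]
    refine Sigma.hom_ext _ _ fun c => ?_
    simp only [U, Iso.trans_hom, Category.assoc, Iso.inv_hom_id_assoc]
    rw [← Category.assoc (Sigma.ι _ c) iso.inv, show Sigma.ι (fun _ : Fin d => P.obj M) c ≫ iso.inv =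
      P.map (Sigma.ι (fun _ : Fin d => M) c) by rw [Iso.comp_inv_eq, hι], ← Functor.map_comp_assoc,
      Sigma.ι_desc, Functor.map_sum, Preadditive.sum_comp, ← Category.assoc (Sigma.ι _ c) V.hom,
      show Sigma.ι (fun _ : Fin d => P.obj M) c ≫ V.hom = _ from toEndM_ι Mx c, Preadditive.sum_comp]
    simp only [Category.assoc, Functor.map_comp, reassoc_of% hι]
    simp only [V, toEndM_ι, Preadditive.comp_sum]
    rw [Finset.sum_comm]
    refine Finset.sum_congr rfl fun j _ => ?_
    simp only [D, Limits.Sigma.ι_map]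
    rw [h2 j, ← Category.assoc, Preadditive.comp_sum]
    simp only [← Category.assoc, ← Preadditive.sum_comp]
    congr 1
    show ∑ x, term (π := π) (q := q) (∑ i, e.repr (e i * e c) x • a i) (τ j (e x)) = _
    simp only [term_sum_left, term_smul h]
    rw [Finset.sum_comm]
    refine Finset.sum_congr rfl fun i _ => ?_
    rw [← term_sum_right, sum_repr_smul, map_mul]
    show _ = sc q (τ j (e c)) _ ≫ term (π := π) (q := q) (a i) (τ j (e i))
    rw [term, term, ← Category.assoc, ← sc_comm, Category.assoc, ← sc_mul, mul_comm]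
  have hDidem : D ≫ D = D := Sigma.hom_ext _ _ fun j => by simp [D, reassoc_of% (h1 j)]
  have hρidem : ρ ≫ ρ = ρ := by
    rw [← sub_eq_zero]
    obtain ⟨b₀⟩ := (Module.Free.chooseBasis k K).index_nonempty
    refine eq_zero_of_sum_basis h (Module.Free.chooseBasis k K) hMd {b₀} (fun _ => ρ ≫ ρ - ρ) ?_ b₀ (by simp)
    have h0 : P.map (ρ ≫ ρ - ρ) = 0 := by
      rw [Functor.map_sub, Functor.map_comp, sub_eq_zero, ← cancel_mono U.hom, Category.assoc, key,
        reassoc_of% key, hDidem]
    simp [show (Scheme.Modules.pullback π).map (ρ ≫ ρ - ρ) = 0 from h0]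
  obtain ⟨N, i, r, hir, hri⟩ := IsIdempotentComplete.idempotents_split _ ρ hρidem
  refine ⟨N, i, r, hir, ⟨KS92.isoOfSplittings (e := D) (P.map i ≫ U.hom) (U.inv ≫ P.map r)
    (Limits.Sigma.map ι') (Limits.Sigma.map π') ?_ ?_ ?_ ?_⟩⟩
  · simp only [Category.assoc, Iso.hom_inv_id_assoc, ← P.map_comp, hir, P.map_id]
    rfl
  · rw [Category.assoc, ← P.map_comp_assoc, hri, key, Iso.inv_hom_id_assoc]
  · exact Sigma.hom_ext _ _ fun j => by simp [reassoc_of% (h1 j)]
  · exact Sigma.hom_ext _ _ fun j => by simp [D]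

end Diag

include h in
/-- A module over the base with an indecomposable summand over a Galois extension whose class is
invariant only has copies of that summand. -/
theorem iso_of_invariant_summand [IsProper (X ↘ Spec (CommRingCat.of k))] [IsProper q] [IsSepClosure k K]
    (gal : (K ≃ₐ[k] K) → (X' ⟶ X')) (hg₁ : ∀ σ, gal σ ≫ π = π)
    (hg₂ : ∀ σ, gal σ ≫ q = q ≫ Spec.map (CommRingCat.ofHom (σ : K →+* K)))
    {M : X.Modules} (hM : Coh.IsCoh M) (hMi : KS92.Indec M) {n : ℕ} (Ls : Fin n → X'.Modules)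
    (hLs : ∀ j, KS92.Indec (Ls j)) (φ : (Scheme.Modules.pullback π).obj M ≅ ∐ Ls) (j₀ : Fin n)
    (hinv : ∀ σ, Nonempty ((Scheme.Modules.pullback (gal σ)).obj (Ls j₀) ≅ Ls j₀)) :
    ∀ j, Nonempty (Ls j ≅ Ls j₀) := by
  classical
  haveI : IsGalois k K := IsSepClosure.isGalois
  haveI := CurveCohLib.isNoetherian_of_proper (k := k) (X := X)
  let P := Scheme.Modules.pullback π
  let i₀ : Ls j₀ ⟶ P.obj M := Sigma.ι Ls j₀ ≫ φ.inv
  let r₀ : P.obj M ⟶ Ls j₀ := φ.hom ≫ KS92.proj Ls j₀
  have hir : i₀ ≫ r₀ = 𝟙 _ := by simp [i₀, r₀]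
  let b := Module.Free.chooseBasis k K
  obtain ⟨S, f, hf⟩ := exists_sum h b hM hM.1 (r₀ ≫ i₀)
  haveI : Finite ((fun i => b i) '' ↑S : Set K) := (S.finite_toSet.image _).to_subtype
  let L := FiniteGaloisIntermediateField.adjoin k ((fun i => b i) '' ↑S : Set K)
  let e := Module.finBasis k L.toIntermediateField
  have hd : 0 < Module.finrank k L.toIntermediateField := Module.finrank_pos
  let c : S → L.toIntermediateField := fun i => ⟨b i.1, FiniteGaloisIntermediateField.subset_adjoin k _ ⟨i.1, i.2, rfl⟩⟩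
  let a : Fin (Module.finrank k L.toIntermediateField) → (M ⟶ M) := fun l => ∑ i : S, e.repr (c i) l • f i.1
  have hE : ∀ τ : L.toIntermediateField →ₐ[k] K,
      ∑ l, term (π := π) (q := q) (a l) (τ (e l)) = ∑ i : S, term (π := π) (q := q) (f i.1) (τ (c i)) := fun τ => by
    simp only [a, term_sum_left, term_smul h]
    rw [Finset.sum_comm]
    refine Finset.sum_congr rfl fun i _ => ?_
    rw [← term_sum_right, sum_repr_smul]
  have hcard : Fintype.card Gal(L.toIntermediateField/k) = Module.finrank k L.toIntermediateField := by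
    rw [← Nat.card_eq_fintype_card, IsGalois.card_aut_eq_finrank]
  let g := (Fintype.equivFinOfCardEq hcard).symm
  let σ : Fin (Module.finrank k L.toIntermediateField) → (K ≃ₐ[k] K) := fun j => (g j).liftNormal K
  let τ : Fin (Module.finrank k L.toIntermediateField) → (L.toIntermediateField →ₐ[k] K) :=
    fun j => L.toIntermediateField.val.comp (g j).toAlgHom
  have hτ : Function.Injective τ := fun j j' hjj => g.injective (AlgEquiv.ext fun x => Subtype.ext
    (congr($hjj x)))
  have hσ : ∀ j (x : L.toIntermediateField), σ j (x : K) = τ j x := fun j x =>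
    AlgEquiv.liftNormal_commutes (g j) K x
  have hsplit : ∀ j, ∃ (i' : Ls j₀ ⟶ P.obj M) (r' : P.obj M ⟶ Ls j₀), i' ≫ r' = 𝟙 _ ∧
      r' ≫ i' = ∑ l, term (π := π) (q := q) (a l) (τ j (e l)) := fun j => by
    obtain ⟨ψ⟩ := hinv (σ j)
    let t := (twistIso (gal (σ j)) (hg₁ (σ j))).app M
    let G := Scheme.Modules.pullback (gal (σ j))
    haveI : G.Additive := (Scheme.Modules.pullbackPushforwardAdjunction (gal (σ j))).left_adjoint_additive
    refine ⟨ψ.inv ≫ G.map i₀ ≫ t.hom, t.inv ≫ G.map r₀ ≫ ψ.hom, ?_, ?_⟩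
    · simp only [Category.assoc, Iso.hom_inv_id_assoc, ← Functor.map_comp_assoc, hir,
        CategoryTheory.Functor.map_id, Category.id_comp, Iso.inv_hom_id]
    · simp only [Category.assoc, Iso.hom_inv_id_assoc]
      rw [← Functor.map_comp_assoc, hf, Functor.map_sum, Preadditive.sum_comp, Preadditive.comp_sum, hE,
        ← Finset.sum_coe_sort S]
      refine Finset.sum_congr rfl fun i _ => ?_
      rw [← hσ j (c i)]
      show t.inv ≫ G.map (term (π := π) (q := q) (f i.1) (b i.1)) ≫ t.hom = _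
      exact (congrArg (t.inv ≫ ·) (twist_term (σ j) (gal (σ j)) (hg₁ _) (hg₂ _) (f i.1) (b i.1))).trans
        (t.inv_hom_id_assoc _)
  choose i' r' hir' hri' using hsplit
  have hMd := isCoh_coproduct (fun _ : Fin (Module.finrank k L.toIntermediateField) => M) fun _ => hM
  obtain ⟨N, iN, rN, hN, ⟨eN⟩⟩ := exists_descended_splitting h e τ hτ hd hM.1 hMd.1 a (fun _ => Ls j₀) i' r' hir' hri'
  haveI := finite_hom (k := k) hMd hMd
  obtain ⟨t, ⟨et⟩⟩ := KS92.exists_iso_pow k hMi (Iso.refl _) iN rN hN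
  letI : X'.Over (Spec (CommRingCat.of K)) := ⟨q⟩
  haveI : IsProper (X' ↘ Spec (CommRingCat.of K)) := ‹IsProper q›
  haveI := CurveCohLib.isNoetherian_of_proper (k := K) (X := X')
  have hNc : Coh.IsCoh (P.obj N) :=
    ZClosLib.isCoh_pullback π (QCohAb92.isCoh_of_iso' et.symm (isCoh_coproduct _ fun _ => hM))
  haveI := finite_hom (k := K) hNc hNc
  have ht : 0 < t := Nat.pos_of_ne_zero fun h0 => (hLs j₀).1 <| by
    subst h0
    have hz : IsZero N := IsZero.of_iso ((IsZero.iff_id_eq_zero _).2 (Sigma.hom_ext _ _ fun i => i.elim0)) et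
    haveI := (Scheme.Modules.pullbackPushforwardAdjunction π).left_adjoint_additive
    have hz' : IsZero (∐ fun _ : Fin (Module.finrank k L.toIntermediateField) => Ls j₀) :=
      IsZero.of_iso (P.map_isZero hz) eN.symm
    exact KS92.isZero_of_retract hz' (Sigma.ι (fun _ : Fin (Module.finrank k L.toIntermediateField) => Ls j₀) ⟨0, hd⟩)
      (KS92.proj _ ⟨0, hd⟩) (KS92.ι_proj_self _ _)
  intro j
  obtain ⟨j', ⟨ej⟩⟩ := KS92.exists_iso_of_iso K (fun p : Fin (t * n) => hLs (finProdFinEquiv.symm p).2)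
    (fun _ => hLs j₀)
    (P.mapIso et ≪≫ PreservesCoproduct.iso P _ ≪≫ Sigma.mapIso (fun _ => φ) ≪≫ KS92.powIso t Ls) eN
    (finProdFinEquiv (⟨0, ht⟩, j))
  exact ⟨eqToIso (by simp) ≪≫ ej⟩

end Groth.Agent.BCHom92
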