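import Groth.Agent.BCHom92.Basic
import Groth.Agent.QCohColim92.FPHom
import Mathlib.LinearAlgebra.Basis.VectorSpace
import Mathlib.CategoryTheory.Adjunction.Additive

/-!
# Morphisms between base changes to a field extension
-/

set_option autoImplicit false
set_option backward.isDefEq.respectTransparency false
set_option backward.isDefEq.respectTransparency.types false

universe u

open CategoryTheory CategoryTheory.Limits AlgebraicGeometry TopologicalSpace Opposite TensorProduct

namespace Groth.Agent.BCHom92

open Groth.Agent Groth.Agent.QCoh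

variable {k K : Type u} [Field k] [CommRing K] [Algebra k K] {X X' : Scheme.{u}}
  {p : X ⟶ Spec (CommRingCat.of k)} {π : X' ⟶ X} {q : X' ⟶ Spec (CommRingCat.of K)}
  (h : IsPullback π q p (Spec.map (CommRingCat.ofHom (algebraMap k K))))

theorem homEquiv_map_comp_sc {F G : X.Modules} (f : F ⟶ G) (r : K) :
    (Scheme.Modules.pullbackPushforwardAdjunction π).homEquiv _ _
      ((Scheme.Modules.pullback π).map f ≫ sc q r _) = f ≫ cmp π q r G := by
  rw [Adjunction.homEquiv_naturality_left, Adjunction.homEquiv_unit]
  rfl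

section

variable {β : Type u} (G : X.Modules)

/-- Projection of a sum of copies onto one of them. -/
noncomputable def pr (i : β) : (∐ fun _ : β => G) ⟶ G :=
  Sigma.desc fun j => open Classical in if j = i then 𝟙 G else 0

theorem ι_pr_self (i : β) : Sigma.ι (fun _ : β => G) i ≫ pr G i = 𝟙 G := by simp [pr]

theorem ι_pr_ne {i j : β} (hij : j ≠ i) : Sigma.ι (fun _ : β => G) j ≫ pr G i = 0 := by simp [pr, hij]

/-- Projection onto finitely many summands. -/
noncomputable def part (S : Finset β) : (∐ fun _ : β => G) ⟶ (∐ fun _ : β => G) :=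
  ∑ i ∈ S, pr G i ≫ Sigma.ι (fun _ : β => G) i

theorem ι_part {S : Finset β} {j : β} (hj : j ∈ S) :
    Sigma.ι (fun _ : β => G) j ≫ part G S = Sigma.ι (fun _ : β => G) j := by
  rw [part, Preadditive.comp_sum, Finset.sum_eq_single j]
  · rw [← Category.assoc, ι_pr_self, Category.id_comp]
  · intro i _ hi
    rw [← Category.assoc, ι_pr_ne G (Ne.symm hi), zero_comp]
  · intro hn; exact absurd hj hn

theorem part_app_sumSec {S : Finset β} {V : X.Opens} (x : β →₀ Γ(G, V)) (hx : x.support ⊆ S) :
    (part G S).app V (sumSec G V x) = sumSec G V x := by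
  rw [sumSec, Finsupp.lsum_apply, Finsupp.sum, map_sum]
  refine Finset.sum_congr rfl fun j hj => ?_
  show (part G S).app V ((Sigma.ι (fun _ : β => G) j).app V (x j)) = _
  rw [← ConcreteCategory.comp_apply, ← Scheme.Modules.Hom.comp_app, ι_part G (hx hj)]
  rfl

end

include h in
/-- Morphisms between base changes are finite combinations of base changed morphisms. -/
theorem exists_sum [CompactSpace X] {β : Type u} (b : Module.Basis β k K) {F G : X.Modules}
    (hF : Coh.IsCoh F) (hG : Coh.IsQCoh G)
    (φ : (Scheme.Modules.pullback π).obj F ⟶ (Scheme.Modules.pullback π).obj G) :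
    ∃ (S : Finset β) (f : β → (F ⟶ G)),
      φ = ∑ i ∈ S, (Scheme.Modules.pullback π).map (f i) ≫ sc q (b i) _ := by
  classical
  haveI := isIso_Phi π q h hG b
  let adj := Scheme.Modules.pullbackPushforwardAdjunction π
  let g : F ⟶ (∐ fun _ : β => G) := adj.homEquiv _ _ φ ≫ inv (Phi π q b G)
  obtain ⟨s, hcov⟩ := QCohColim92.exists_finite_affine_cover X
  choose T hT using fun V : s => (finite_of_isFT hF.1 hF.2 V.1.2).fg_top
  choose r hr using fun a : Σ V : s, (T V : Set Γ(F, V.1.1)) =>
    surjective_sumSec (β := β) hG a.1.1.2 (g.app a.1.1.1 a.2.1)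
  let S := Finset.univ.biUnion fun a => (r a).support
  have hg : g ≫ part G S = g := by
    rw [← sub_eq_zero]
    refine hom_eq_zero_of_cover hF.1 ((isQCoh_colimit _ fun _ => hG)) _ (fun V : s => V.1.1)
      (fun V => V.1.2) hcov fun V x => ?_
    refine LinearMap.congr_fun (f := appLin (g ≫ part G S - g) V.1.1) (g := 0)
      (LinearMap.ext_on (hT V) fun t ht => ?_) x
    show (g ≫ part G S - g).app V.1.1 t = 0
    rw [Scheme.Modules.Hom.sub_app]
    show (part G S).app V.1.1 (g.app V.1.1 t) - g.app V.1.1 t = 0
    rw [sub_eq_zero, ← hr ⟨V, t, ht⟩]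
    exact part_app_sumSec G _ (Finset.subset_biUnion_of_mem (fun a => (r a).support) (Finset.mem_univ _))
  refine ⟨S, fun i => g ≫ pr G i, (adj.homAddEquiv _ _).injective ?_⟩
  rw [map_sum]
  simp only [Adjunction.homAddEquiv_apply]
  simp only [adj, homEquiv_map_comp_sc, Category.assoc]
  calc adj.homEquiv _ _ φ = g ≫ Phi π q b G := by simp [g]
    _ = (g ≫ part G S) ≫ Phi π q b G := by rw [hg]
    _ = _ := by
      simp only [part, Preadditive.comp_sum, Preadditive.sum_comp, Category.assoc, Phi, Sigma.ι_desc]

include h in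
/-- The coefficients of such a combination are unique. -/
theorem eq_zero_of_sum_basis {β : Type u} (b : Module.Basis β k K) {F G : X.Modules}
    (hG : Coh.IsQCoh G) (S : Finset β) (f : β → (F ⟶ G))
    (hz : ∑ i ∈ S, (Scheme.Modules.pullback π).map (f i) ≫ sc q (b i) _ = 0) : ∀ i ∈ S, f i = 0 := by
  classical
  haveI := isIso_Phi π q h hG b
  let adj := Scheme.Modules.pullbackPushforwardAdjunction π
  have h1 : (∑ i ∈ S, f i ≫ Sigma.ι (fun _ : β => G) i) ≫ Phi π q b G = 0 := by
    have := congrArg (adj.homAddEquiv _ _) hz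
    rw [map_sum, map_zero] at this
    simp only [Adjunction.homAddEquiv_apply, adj, homEquiv_map_comp_sc] at this
    simp only [Preadditive.sum_comp, Category.assoc, Phi, Sigma.ι_desc]
    exact this
  have h2 : ∑ i ∈ S, f i ≫ Sigma.ι (fun _ : β => G) i = 0 := by
    rw [← cancel_mono (Phi π q b G), h1, zero_comp]
  intro j hj
  have h3 := congrArg (fun z => z ≫ pr G j) h2
  simp only [Preadditive.sum_comp, Category.assoc, zero_comp] at h3
  rw [Finset.sum_eq_single j (fun i _ hi => by rw [ι_pr_ne G hi, comp_zero]) (fun hn => absurd hj hn),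
    ι_pr_self, Category.comp_id] at h3
  exact h3

include h in
/-- Uniqueness of coefficients along any independent family. -/
theorem eq_zero_of_sum {d : ℕ} {v : Fin d → K} (hv : LinearIndependent k v) {F G : X.Modules}
    (hG : Coh.IsQCoh G) (f : Fin d → (F ⟶ G))
    (hz : ∑ i, (Scheme.Modules.pullback π).map (f i) ≫ sc q (v i) _ = 0) : ∀ i, f i = 0 := by
  classical
  let b := Module.Basis.sumExtend hv
  have hb : ∀ i, b (Sum.inl i) = v i := fun i => by
    simp [b, Module.Basis.sumExtend]
    rfl
  intro i
  have := eq_zero_of_sum_basis h b hG (Finset.univ.map ⟨Sum.inl, Sum.inl_injective⟩)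
    (Sum.elim f fun _ => 0) (by
      rw [Finset.sum_map]
      simpa [hb] using hz) (Sum.inl i) (by simp)
  simpa using this

end Groth.Agent.BCHom92
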