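import Groth.Agent.H23.EndInv
import Groth.Agent.KS92.Local
import Groth.Agent.QCoh.SubCompare

/-!
# Invertible modules on connected schemes are indecomposable
-/

set_option autoImplicit false
set_option backward.isDefEq.respectTransparency false
set_option backward.isDefEq.respectTransparency.types false

universe u

open CategoryTheory CategoryTheory.Limits AlgebraicGeometry TopologicalSpace Opposite

namespace Groth.Agent.BCHom92

open Groth.Agent

/-- An idempotent function on a connected scheme is zero or one. -/
theorem idem_fun_trivial {X : Scheme.{u}} [ConnectedSpace X] (s : Γ(X, ⊤)) (hs : s * s = s) :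
    s = 0 ∨ s = 1 := by
  have hcl : IsClopen (X.basicOpen s : Set X) := by
    refine ⟨?_, (X.basicOpen s).2⟩
    have e : (X.basicOpen s : Set X) = (X.basicOpen (1 - s) : Set X)ᶜ := by
      ext x
      simp only [SetLike.mem_coe, Set.mem_compl_iff, Scheme.mem_basicOpen_top]
      rw [map_sub, map_one]
      set a := (X.presheaf.germ ⊤ x trivial).hom s with ha
      have ha2 : a * a = a := by rw [ha, ← map_mul, hs]
      constructor
      · intro h1 h2
        have : a = 1 := h1.mul_left_cancel (ha2.trans (mul_one a).symm)
        rw [this, sub_self] at h2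
        exact not_isUnit_zero h2
      · intro h2
        exact (IsLocalRing.isUnit_or_isUnit_one_sub_self a).resolve_right h2
    rw [e]
    exact (X.basicOpen (1 - s)).2.isClosed_compl
  rcases isClopen_iff.1 hcl with h | h
  · left
    have h1 : IsUnit (1 - s) := by
      refine X.toRingedSpace.isUnit_of_isUnit_germ ⊤ _ fun x hx => ?_
      have hx' : x ∉ X.basicOpen s := fun hmem => Set.eq_empty_iff_forall_notMem.1 h x hmem
      rw [Scheme.mem_basicOpen_top] at hx'
      show IsUnit ((X.presheaf.germ ⊤ x hx).hom (1 - s))
      rw [map_sub, map_one]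
      exact (IsLocalRing.isUnit_or_isUnit_one_sub_self _).resolve_left hx'
    exact h1.mul_left_eq_zero.1 (by rw [mul_sub, mul_one, hs, sub_self])
  · right
    have h1 : IsUnit s := X.toRingedSpace.isUnit_of_isUnit_germ ⊤ _ fun x hx =>
      (X.mem_basicOpen_top s x).1 (h.ge (Set.mem_univ x))
    exact h1.mul_left_cancel (hs.trans (mul_one s).symm)

/-- An invertible module on a connected scheme is indecomposable. -/
theorem indec_of_isInvertible {X : Scheme.{u}} [ConnectedSpace X] {L : X.Modules} (hL : PicF.IsInvertible L) :
    KS92.Indec L := by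
  obtain ⟨x⟩ := (inferInstance : Nonempty X)
  choose U hU f hf using InvX.exists_frame hL
  refine ⟨fun hz => ?_, fun A B ⟨φ⟩ => ?_⟩
  · haveI : Nontrivial Γ(X, U x) := by
      refine ⟨⟨0, 1, fun h01 => ?_⟩⟩
      have h2 := congrArg (X.presheaf.germ (U x) x (hU x)).hom h01
      rw [map_zero, map_one] at h2
      exact zero_ne_one h2
    have h0 : ∀ c : Γ(X, U x), c • f x = 0 := fun c => by
      have := congr(($((IsZero.iff_id_eq_zero L).1 hz)).app (U x) (c • f x))
      simpa using this
    refine zero_ne_one (α := Γ(X, U x)) ((hf x).coord_unique le_rfl ?_)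
    simp only [AModX.res_self, h0]
  obtain ⟨s, hs⟩ := H23.EndInv.exists_coeff hL (φ.hom ≫ biprod.fst ≫ biprod.inl ≫ φ.inv)
  let v := φ.hom ≫ biprod.fst ≫ biprod.inl ≫ φ.inv
  have hvv : v ≫ v = v := by simp [v]
  have hss : s * s = s := by
    refine AModX.eq_of_locally (M := Coh.structureModule X) (show Γ(Coh.structureModule X, ⊤) from s * s)
      (show Γ(Coh.structureModule X, ⊤) from s) fun p _ => ⟨U p, le_top, hU p, ?_⟩
    show AModX.resR le_top (s * s) = AModX.resR le_top s
    refine (hf p).coord_unique le_rfl ?_
    rw [AModX.res_self, map_mul, mul_smul, ← hs (U p) (f p), ← hs (U p) (v.app (U p) (f p))]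
    exact congr(($hvv).app (U p) (f p))
  rcases idem_fun_trivial s hss with h | h
  · left
    have hv : v = 0 := Scheme.Modules.hom_ext _ _ fun W => by
      ext m
      rw [hs W m, h, map_zero, zero_smul]
      rfl
    rw [IsZero.iff_id_eq_zero]
    have := congrArg (fun z => biprod.inl ≫ φ.inv ≫ z ≫ φ.hom ≫ biprod.fst) hv
    simpa [v] using this
  · right
    have hv : v = 𝟙 _ := Scheme.Modules.hom_ext _ _ fun W => by
      ext m
      rw [hs W m, h, map_one, one_smul]
      rfl
    rw [IsZero.iff_id_eq_zero]
    have := congrArg (fun z => biprod.inr ≫ φ.inv ≫ z ≫ φ.hom ≫ biprod.snd) hv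
    simpa [v] using this.symm

end Groth.Agent.BCHom92
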