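import Groth.Agent.BCHom92.Descent

/-!
# Isomorphism classes of coherent modules on proper schemes under algebraic extensions
-/

set_option autoImplicit false
set_option backward.isDefEq.respectTransparency false
set_option backward.isDefEq.respectTransparency.types false

universe u

open CategoryTheory CategoryTheory.Limits AlgebraicGeometry TopologicalSpace Opposite

namespace Groth.Agent.BCHom92

open Groth.Agent

variable {k K : Type u} [Field k] [Field K] [Algebra k K] [Algebra.IsAlgebraic k K] {X X' : Scheme.{u}}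
  [X.Over (Spec (CommRingCat.of k))] [IsProper (X ↘ Spec (CommRingCat.of k))]
  {π : X' ⟶ X} {q : X' ⟶ Spec (CommRingCat.of K)}

/-- Coherent modules that become isomorphic over an algebraic extension are isomorphic. -/
theorem nonempty_iso_of_pullback_iso
    (h : IsPullback π q (X ↘ Spec (CommRingCat.of k)) (Spec.map (CommRingCat.ofHom (algebraMap k K))))
    {F G : X.Modules} (hF : Coh.IsCoh F) (hG : Coh.IsCoh G)
    (φ : (Scheme.Modules.pullback π).obj F ≅ (Scheme.Modules.pullback π).obj G) : Nonempty (F ≅ G) := by
  classical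
  haveI := CurveCohLib.isNoetherian_of_proper (k := k) (X := X)
  let b := Module.Free.chooseBasis k K
  obtain ⟨S, f, hf⟩ := exists_sum h b hF hG.1 φ.hom
  obtain ⟨T, g, hg⟩ := exists_sum h b hG hF.1 φ.inv
  let L : IntermediateField k K := IntermediateField.adjoin k ((fun i => b i) '' ↑(S ∪ T))
  haveI : Finite ((fun i => b i) '' ↑(S ∪ T) : Set K) := ((S ∪ T).finite_toSet.image _).to_subtype
  haveI : FiniteDimensional k L :=
    IntermediateField.finiteDimensional_adjoin fun x _ => (Algebra.IsAlgebraic.isAlgebraic x).isIntegral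
  let e := Module.finBasis k L
  have hd : 0 < Module.finrank k L := Module.finrank_pos
  have hexp : ∀ {A B : X.Modules} (U : Finset _) (a : _ → (A ⟶ B)), U ⊆ S ∪ T →
      ∃ a' : Fin (Module.finrank k L) → (A ⟶ B),
        ∑ i ∈ U, (Scheme.Modules.pullback π).map (a i) ≫ sc q (b i) _ =
          ∑ j, term (π := π) (q := q) (a' j) (L.val (e j)) := by
    intro A B U a hU
    let c : U → L := fun i => ⟨b i.1, IntermediateField.subset_adjoin k _ ⟨i.1, hU i.2, rfl⟩⟩
    refine ⟨fun j => ∑ i : U, e.repr (c i) j • a i.1, ?_⟩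
    simp only [term_sum_left, term_smul h]
    rw [Finset.sum_comm, ← Finset.sum_coe_sort U]
    refine Finset.sum_congr rfl fun i _ => ?_
    rw [← term_sum_right]
    simp_rw [← map_smul]
    rw [← map_sum, e.sum_repr]
    rfl
  obtain ⟨f', hf'⟩ := hexp S f Finset.subset_union_left
  obtain ⟨g', hg'⟩ := hexp T g Finset.subset_union_right
  rw [hf'] at hf
  rw [hg'] at hg
  obtain ⟨ψ⟩ := exists_pow_iso h hF.1 hG.1 L.val Subtype.val_injective e f' g'
    (by rw [← hf, ← hg]; exact φ.hom_inv_id) (by rw [← hf, ← hg]; exact φ.inv_hom_id)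
  haveI := finite_hom (k := k) hF hF
  haveI := finite_hom (k := k) hG hG
  haveI := finite_end_pow (k := k) (F := F) (Module.finrank k L)
  exact KS92.nonempty_iso_of_pow k hd ψ

end Groth.Agent.BCHom92
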