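import Groth.Agent.BCHom92.Apps
import Groth.Agent.LimitsH94.LimLocFree
import Groth.Agent.ZClosLib.CohDescent
import Groth.Agent.BCHom92.FormApps

/-!
# Decompositions of isotypical modules
-/

set_option autoImplicit false
set_option backward.isDefEq.respectTransparency false
set_option backward.isDefEq.respectTransparency.types false

universe u

open CategoryTheory CategoryTheory.Limits AlgebraicGeometry TopologicalSpace Opposite

namespace Groth.Agent.BCHom92

open Groth.Agent

variable {X : Scheme.{u}}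

/-- Retracts of coherent modules are coherent. -/
theorem isCoh_of_retract [IsLocallyNoetherian X] {E G : X.Modules} (i : G ⟶ E) (r : E ⟶ G) (h : i ≫ r = 𝟙 G)
    (hE : Coh.IsCoh E) : Coh.IsCoh G := by
  let e : cokernel (𝟙 E - r ≫ i) ≅ G :=
    { hom := cokernel.desc _ r (by simp [h])
      inv := i ≫ cokernel.π _
      hom_inv_id := by
        refine coequalizer.hom_ext ?_
        have h0 := cokernel.condition (𝟙 E - r ≫ i)
        rw [Preadditive.sub_comp, Category.id_comp, Category.assoc, sub_eq_zero] at h0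
        rw [cokernel.π_desc_assoc, Category.comp_id, ← h0]
      inv_hom_id := by simp [h] }
  haveI : Epi r := (SplitEpi.mk i h).epi
  exact QCoh.isCoh_of_epi r hE ((QCoh.isQCoh_iff_iso e).1 (QCoh.isQCoh_cokernel hE.1 hE.1 _))

/-- Retracts of finite locally free modules are finite locally free. -/
theorem isFinLocFree_of_retract [IsLocallyNoetherian X] {E G : X.Modules} (i : G ⟶ E) (r : E ⟶ G)
    (h : i ≫ r = 𝟙 G) (hE : FlatMod.IsFinLocFree E) : FlatMod.IsFinLocFree G := by
  have hC := CurveDeg.isCoh_of_isFinLocFree hE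
  have hG := isCoh_of_retract i r h hC
  have hP := (LimitsH94.LM.isFinLocFree_iff_projective (QCoh.isFP_of_isFinLocFree hE)
    (fun U : X.affineOpens => U.1) (fun U => U.2) LimitsH94.LM.exists_mem_affine).1 hE
  refine (LimitsH94.LM.isFinLocFree_iff_projective (QCoh.isCoh_iff_isFP.1 hG)
    (fun U : X.affineOpens => U.1) (fun U => U.2) LimitsH94.LM.exists_mem_affine).2 fun U => ?_
  haveI := hP U
  refine Module.Projective.of_split (QCoh.appLin i U.1) (QCoh.appLin r U.1) ?_
  rw [← QCoh.appLin_comp, h]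
  rfl

variable {k K : Type u} [Field k] [Field K] [Algebra k K] [Algebra.IsAlgebraic k K] {X' : Scheme.{u}}
  [X.Over (Spec (CommRingCat.of k))] [IsProper (X ↘ Spec (CommRingCat.of k))]
  {π : X' ⟶ X} {q : X' ⟶ Spec (CommRingCat.of K)} [IsProper q]

/-- Summands of a module of isotypical type are of the same type. -/
theorem exists_iso_pow_of_retract
    (h : IsPullback π q (X ↘ Spec (CommRingCat.of k)) (Spec.map (CommRingCat.ofHom (algebraMap k K))))
    {E G : X.Modules} (i : G ⟶ E) (s : E ⟶ G) (hs : i ≫ s = 𝟙 G) (hE : Coh.IsCoh E)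
    {W : X'.Modules} (hW : Coh.IsCoh W) (hWi : KS92.Indec W) {r : ℕ}
    (e : (Scheme.Modules.pullback π).obj E ≅ ∐ fun _ : Fin r => W) :
    ∃ t : ℕ, Nonempty ((Scheme.Modules.pullback π).obj G ≅ ∐ fun _ : Fin t => W) := by
  letI : X'.Over (Spec (CommRingCat.of K)) := ⟨q⟩
  haveI : IsProper (X' ↘ Spec (CommRingCat.of K)) := ‹IsProper q›
  haveI := CurveCohLib.isNoetherian_of_proper (k := K) (X := X')
  haveI := CurveCohLib.isNoetherian_of_proper (k := k) (X := X)
  have hG := ZClosLib.isCoh_pullback π (isCoh_of_retract i s hs hE)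
  have he : (s ≫ i) ≫ s ≫ i = s ≫ i := by simp [reassoc_of% hs]
  obtain ⟨H, i', s', hi, hs'⟩ := IsIdempotentComplete.idempotents_split E (𝟙 E - s ≫ i)
    (by simp [reassoc_of% hs])
  have hH := ZClosLib.isCoh_pullback π (isCoh_of_retract i' s' hi hE)
  haveI := (Scheme.Modules.pullbackPushforwardAdjunction π).left_adjoint_additive
  let P := Scheme.Modules.pullback π
  let φ : P.obj E ≅ P.obj G ⊞ P.obj H := KS92.isoOfIdem (P.map i) (P.map s) (P.map i') (P.map s')
    (by rw [← P.map_comp, hs, P.map_id]) (by rw [← P.map_comp, hi, P.map_id])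
    (by rw [← P.map_comp, ← P.map_comp, ← P.map_add, hs', add_sub_cancel, P.map_id])
  haveI := finite_hom (k := K) hG hG
  haveI := finite_hom (k := K) hH hH
  obtain ⟨a, As, hAs, ⟨eA⟩⟩ := KS92.exists_decomp K (P.obj G)
  obtain ⟨b, Bs, hBs, ⟨eB⟩⟩ := KS92.exists_decomp K (P.obj H)
  have hWr := isCoh_coproduct (fun _ : Fin r => W) fun _ => hW
  haveI := finite_hom (k := K) hWr hWr
  obtain ⟨eq, heq⟩ := KS92.exists_equiv K (F := ∐ fun _ : Fin r => W)
    (Fs := Fin.addCases (motive := fun _ => X'.Modules) As Bs) (fun j => by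
      induction j using Fin.addCases with
      | left j => rw [Fin.addCases_left]; exact hAs j
      | right j => rw [Fin.addCases_right]; exact hBs j)
    (fun _ : Fin r => hWi) (e.symm ≪≫ φ ≪≫ biprod.mapIso eA eB ≪≫ KS92.appendIso As Bs) (Iso.refl _)
  refine ⟨a, ⟨eA ≪≫ Sigma.mapIso fun j => ?_⟩⟩
  have := heq (Fin.castAdd b j)
  rw [Fin.addCases_left] at this
  exact this.some

/-- A module of isotypical type is a power of an indecomposable one. -/
theorem exists_pow_indec
    (h : IsPullback π q (X ↘ Spec (CommRingCat.of k)) (Spec.map (CommRingCat.ofHom (algebraMap k K))))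
    {E : X.Modules} (hE : Coh.IsCoh E) (hE0 : ¬ IsZero E) {W : X'.Modules} (hW : Coh.IsCoh W)
    (hWi : KS92.Indec W) {r : ℕ} (e : (Scheme.Modules.pullback π).obj E ≅ ∐ fun _ : Fin r => W) :
    (∃ (G : X.Modules) (n : ℕ) (i : G ⟶ E) (s : E ⟶ G), i ≫ s = 𝟙 G ∧ KS92.Indec G ∧
      Nonempty (E ≅ ∐ fun _ : Fin n => G)) ∧
    ∀ (G G' : X.Modules) (n m : ℕ), KS92.Indec G → KS92.Indec G' →
      Nonempty (E ≅ ∐ fun _ : Fin n => G) → Nonempty (E ≅ ∐ fun _ : Fin m => G') → Nonempty (G ≅ G') := by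
  haveI := finite_hom (k := k) hE hE
  haveI := CurveCohLib.isNoetherian_of_proper (k := k) (X := X)
  have hz0 : ∀ {D : Fin 0 → X.Modules}, IsZero (∐ D) := fun {D} =>
    (IsZero.iff_id_eq_zero _).2 (Sigma.hom_ext _ _ fun i => i.elim0)
  constructor
  · obtain ⟨n, Fs, hFs, ⟨φ⟩⟩ := KS92.exists_decomp k E
    cases n with
    | zero => exact absurd (hz0.of_iso φ) hE0
    | succ n =>
      have hret : ∀ j, (Sigma.ι Fs j ≫ φ.inv) ≫ φ.hom ≫ KS92.proj Fs j = 𝟙 _ := fun j => by simp
      have hiso : ∀ j, Nonempty (Fs j ≅ Fs 0) := fun j => by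
        obtain ⟨t, ⟨et⟩⟩ := exists_iso_pow_of_retract h _ _ (hret j) hE hW hWi e
        obtain ⟨u, ⟨eu⟩⟩ := exists_iso_pow_of_retract h _ _ (hret 0) hE hW hWi e
        exact nonempty_iso_of_isotypical h (isCoh_of_retract _ _ (hret j) hE) (isCoh_of_retract _ _ (hret 0) hE)
          (hFs j) (hFs 0) W t u et eu
      exact ⟨Fs 0, n + 1, _, _, hret 0, hFs 0, ⟨φ ≪≫ Sigma.mapIso fun j => (hiso j).some⟩⟩
  · rintro G G' n m hG hG' ⟨φ⟩ ⟨ψ⟩
    obtain ⟨eq, heq⟩ := KS92.exists_equiv k (fun _ => hG) (fun _ => hG') φ ψ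
    cases n with
    | zero => exact absurd (hz0.of_iso φ) hE0
    | succ n => exact heq 0

end Groth.Agent.BCHom92
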